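import Mathlib
import Cfsg.Agent.SmallSimple.SylowPrimeCount

/-!
# The prime divisors of `|M : S|` (helper833)
-/

set_option autoImplicit false
set_option linter.unusedSectionVars false

namespace Cfsg.Agent.H833.RS.Frat

open Subgroup

variable {M : Type*} [Group M] [Finite M]

/-- elements of order prime to the index of a normal subgroup -/
theorem mem_of_coprime (S : Subgroup M) [S.Normal] {x : M} (h : Nat.Coprime (orderOf x) S.index) : x ∈ S := by
  have h1 : orderOf (QuotientGroup.mk x : M ⧸ S) ∣ orderOf x := orderOf_map_dvd (QuotientGroup.mk' S) x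
  have h2 : orderOf (QuotientGroup.mk x : M ⧸ S) ∣ S.index := orderOf_dvd_natCard _
  have h3 : orderOf (QuotientGroup.mk x : M ⧸ S) = 1 := Nat.eq_one_of_dvd_coprimes h h1 h2
  exact (QuotientGroup.eq_one_iff x).1 (orderOf_eq_one_iff.1 h3)

/-- a Sylow subgroup of prime order and its normalizer -/
theorem exists_frattini (S : Subgroup M) [S.Normal] {s : ℕ} (hs : s.Prime) (hsS : s ∣ Nat.card S)
    (hsM : ¬ s ^ 2 ∣ Nat.card M) : ∃ P : Subgroup M, P ≤ S ∧ Nat.card P = s ∧
      Nat.card (normalizer (P : Set M)) = S.index * Nat.card ↥(S ⊓ normalizer (P : Set M)) := by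
  have := Fact.mk hs
  obtain ⟨P⟩ : Nonempty (Sylow s S) := inferInstance
  have hP : Nat.card P = s := by
    obtain ⟨n, hn⟩ := IsPGroup.iff_card.1 P.2
    have h1 : n = 1 := by
      have h2 : s ∣ Nat.card P := P.dvd_card_of_dvd_card hsS
      have h3 : n < 2 := by
        by_contra hcon
        apply hsM
        refine (pow_dvd_pow s (not_lt.1 hcon)).trans ?_
        rw [← hn]
        exact (card_subgroup_dvd_card _).trans (card_subgroup_dvd_card _)
      have h4 : n ≠ 0 := by
        rintro rfl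
        rw [hn, pow_zero, Nat.dvd_one] at h2
        exact hs.one_lt.ne' h2
      omega
    rw [h1, pow_one] at hn
    exact hn
  refine ⟨(P : Subgroup S).map S.subtype, map_subtype_le _, ?_, ?_⟩
  · rw [card_map_of_injective S.subtype_injective]
    exact hP
  · have h1 := Sylow.normalizer_sup_eq_top P
    have h2 : S.relIndex (normalizer (((P : Subgroup S).map S.subtype : Subgroup M) : Set M)) = S.index := by
      rw [← relIndex_sup_right, h1, relIndex_top_right]
    have h3 := relIndex_mul_relIndex ⊥ (S ⊓ normalizer (((P : Subgroup S).map S.subtype : Subgroup M) : Set M))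
      (normalizer (((P : Subgroup S).map S.subtype : Subgroup M) : Set M)) bot_le inf_le_right
    rw [relIndex_bot_left, relIndex_bot_left, inf_relIndex_right, h2, mul_comm] at h3
    exact h3.symm

/-- elements of order `r` commuting with an element of order `s` -/
theorem exists_comm (S : Subgroup M) [S.Normal] {s r : ℕ} (hs : s.Prime) (hr : r.Prime) (hsS : s ∣ Nat.card S)
    (hsM : ¬ s ^ 2 ∣ Nat.card M) (hrI : r ∣ S.index) (hrs : ¬ r ∣ s - 1) :
    ∃ x y : M, orderOf x = s ∧ orderOf y = r ∧ x * y = y * x := by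
  have := Fact.mk hs
  have := Fact.mk hr
  obtain ⟨P, hPS, hP, hN⟩ := exists_frattini S hs hsS hsM
  have h1 : r ∣ Nat.card (normalizer (P : Set M)) := by rw [hN]; exact hrI.mul_right _
  have h2 := Cfsg.Agent.SmallSimple.SylowPrimeCount.card_normalizer_dvd hs hP (centralizer_le_normalizer _)
  have h3 : r ∣ Nat.card (centralizer (P : Set M)) := ((Nat.Prime.dvd_mul hr).1 (h1.trans h2)).resolve_left hrs
  obtain ⟨y, hy⟩ := exists_prime_orderOf_dvd_card' r h3
  obtain ⟨x, hx⟩ := exists_prime_orderOf_dvd_card' s (dvd_of_eq hP.symm)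
  refine ⟨x, y, by rw [orderOf_coe, hx], by rw [orderOf_coe, hy], ?_⟩
  exact mem_centralizer_iff.1 y.2 x x.2

theorem exists_cent {P : Subgroup M} {s r : ℕ} (hs : s.Prime) (hr : r.Prime) (hP : Nat.card P = s)
    (h : r ∣ Nat.card (centralizer (P : Set M))) : ∃ x y : M, orderOf x = s ∧ orderOf y = r ∧ x * y = y * x := by
  have := Fact.mk hs
  have := Fact.mk hr
  obtain ⟨y, hy⟩ := exists_prime_orderOf_dvd_card' r h
  obtain ⟨x, hx⟩ := exists_prime_orderOf_dvd_card' s (dvd_of_eq hP.symm)
  refine ⟨x, y, by rw [orderOf_coe, hx], by rw [orderOf_coe, hy], ?_⟩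
  exact mem_centralizer_iff.1 y.2 x x.2

theorem not_three_dvd (S : Subgroup M) [S.Normal] (hS : Nat.card S = 20160) (hM : ¬ 7 ^ 2 ∣ Nat.card M)
    (h21 : ∀ x y : M, orderOf x = 7 → orderOf y = 3 → x * y ≠ y * x)
    (h35 : ∀ x y : M, orderOf x = 7 → orderOf y = 5 → x * y ≠ y * x) : ¬ 3 ∣ S.index := by
  intro h3
  have h7 : Nat.Prime 7 := by norm_num
  have := Fact.mk h7
  obtain ⟨P, hPS, hP, hN⟩ := exists_frattini S h7 (by rw [hS]; norm_num) hM
  set k := Nat.card ↥(S ⊓ normalizer (P : Set M)) with hk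
  have h2 := Cfsg.Agent.SmallSimple.SylowPrimeCount.card_normalizer_dvd h7 hP (centralizer_le_normalizer _)
  have hk3 : ¬ 3 ∣ k := by
    intro h
    have h4 : 3 * 3 ∣ (7 - 1) * Nat.card (centralizer (P : Set M)) := by
      refine dvd_trans ?_ h2
      rw [hN]
      exact mul_dvd_mul h3 h
    have h5 : 3 ∣ 2 * Nat.card (centralizer (P : Set M)) := by omega
    have h6 : 3 ∣ Nat.card (centralizer (P : Set M)) := by omega
    obtain ⟨x, y, hx, hy, hxy⟩ := exists_cent h7 Nat.prime_three hP h6
    exact h21 x y hx hy hxy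
  have hk5 : ¬ 5 ∣ k := by
    intro h
    have h4 : 5 ∣ (7 - 1) * Nat.card (centralizer (P : Set M)) := by
      refine dvd_trans ?_ h2
      rw [hN]
      exact h.mul_left _
    have h6 : 5 ∣ Nat.card (centralizer (P : Set M)) := by omega
    obtain ⟨x, y, hx, hy, hxy⟩ := exists_cent h7 (by norm_num) hP h6
    exact h35 x y hx hy hxy
  -- the number of Sylow subgroups
  have hPM : ¬ 7 ∣ P.index := by
    intro h
    apply hM
    rw [← P.card_mul_index, hP, pow_two]
    exact Nat.mul_dvd_mul_left _ h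
  let Q : Sylow 7 M := IsPGroup.toSylow (P := P) (IsPGroup.of_card (n := 1) (by rw [hP, pow_one])) hPM
  have hQ : (Q : Subgroup M) = P := rfl
  have h8 := Sylow.card_eq_index_normalizer Q
  have h9 := card_sylow_modEq_one 7 M
  rw [h8] at h9
  change (normalizer (P : Set M)).index ≡ 1 [MOD 7] at h9
  set n := (normalizer (P : Set M)).index with hn
  have h10 : n * k = 20160 := by
    have h11 := (normalizer (P : Set M)).index_mul_card
    rw [hN, ← S.index_mul_card, hS] at h11
    have h12 : S.index * (n * k) = S.index * 20160 := by rw [← h11]; ring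
    exact Nat.eq_of_mul_eq_mul_left (Nat.pos_of_ne_zero S.index_ne_zero_of_finite) h12
  have h11 : 45 ∣ n := by
    have h12 : Nat.Coprime 45 k := by
      rw [show 45 = 3 * 3 * 5 by norm_num]
      exact Nat.Coprime.mul_left (Nat.Coprime.mul_left ((Nat.prime_three.coprime_iff_not_dvd).2 hk3)
        ((Nat.prime_three.coprime_iff_not_dvd).2 hk3)) (((by norm_num : Nat.Prime 5).coprime_iff_not_dvd).2 hk5)
    refine h12.dvd_of_dvd_mul_right ?_
    rw [h10]
    norm_num
  obtain ⟨m, hm⟩ := h11
  have h12 : m * k = 448 := by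
    have h13 : 45 * (m * k) = 45 * 448 := by rw [← mul_assoc, ← hm, h10]
    exact Nat.eq_of_mul_eq_mul_left (by norm_num) h13
  have h13 : m ∈ Nat.divisors 448 := Nat.mem_divisors.2 ⟨Dvd.intro _ h12, by norm_num⟩
  have h14 : ∀ m ∈ Nat.divisors 448, ¬ 45 * m % 7 = 1 := by decide +kernel
  apply h14 m h13
  rw [← hm]
  exact h9

end Cfsg.Agent.H833.RS.Frat
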