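import Cfsg.Agent.H833.RS.O73Lin
import Cfsg.Agent.H264.FKS.ResCore
import Cfsg.Agent.H251.GeoCard
import Cfsg.Agent.S5814
import Cfsg.Agent.H182.CentOrth

/-!
# The maximal subgroups of `Ω₇(3)` with order divisible by 7, or by 5 and 13 (helper833)
-/

set_option autoImplicit false
set_option linter.unusedSectionVars false

namespace Cfsg.Agent.H833.RS.O73

open Module QuadraticMap Cfsg Cfsg.Geo Cfsg.Agent.LieClassical.OrthCore Cfsg.Agent.H955 Cfsg.Agent.H954.TSing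
open Cfsg.Agent.LieClassical.OmegaReindex
open Cfsg.Agent.H884.El
open Cfsg.Agent.H951 (fx cm Inv)
open scoped MatrixGroups Matrix

variable {F : Type} [Field F] [Fintype F]

/-- the embedding of `Ω₇(q)` in `GL₇(q)` -/
theorem exists_emb (h2 : (2 : F) ≠ 0) : ∃ ψ : POmega F ⇑(quadOdd 3 F) →* GL (Unit ⊕ (Fin 3 ⊕ Fin 3)) F,
    Function.Injective ψ ∧ ψ.range = omegaGL (⇑(quadOdd 3 F)) ∧
      ∀ M : Subgroup (POmega F ⇑(quadOdd 3 F)), pre (⇑(quadOdd 3 F)) M = M.map ψ := by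
  have hc : Subgroup.center (Omega F ⇑(quadOdd 3 F)) = ⊥ := by
    refine LieClassical.OrthCenter.center_omega_eq_bot_of_odd h2 (quadOdd_nondegenerate h2)
      (by rw [H884.El.card_odd]; omega) (by rw [H884.El.card_odd]; exact ⟨3, rfl⟩)
      (quadOdd_isotropic (by omega))
  have hbij : Function.Bijective (QuotientGroup.mk' (Subgroup.center (Omega F ⇑(quadOdd 3 F)))) := by
    refine ⟨?_, QuotientGroup.mk'_surjective _⟩
    rw [← MonoidHom.ker_eq_bot_iff, QuotientGroup.ker_mk', hc]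
  let e : Omega F ⇑(quadOdd 3 F) ≃* POmega F ⇑(quadOdd 3 F) := MulEquiv.ofBijective _ hbij
  have he : ∀ x, e x = QuotientGroup.mk' (Subgroup.center (Omega F ⇑(quadOdd 3 F))) x := fun _ => rfl
  let φ : Omega F ⇑(quadOdd 3 F) →* GL (Unit ⊕ (Fin 3 ⊕ Fin 3)) F :=
    (isometryGroup F ⇑(quadOdd 3 F)).subtype.comp (Omega F ⇑(quadOdd 3 F)).subtype
  have hφ : Function.Injective φ :=
    (isometryGroup F ⇑(quadOdd 3 F)).subtype_injective.comp (Omega F ⇑(quadOdd 3 F)).subtype_injective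
  refine ⟨φ.comp e.symm.toMonoidHom, hφ.comp e.symm.injective, ?_, fun M => ?_⟩
  · ext g
    constructor
    · rintro ⟨x, rfl⟩
      exact ⟨_, (e.symm x).2, rfl⟩
    · rintro ⟨y, hy, rfl⟩
      refine ⟨e ⟨y, hy⟩, ?_⟩
      show φ (e.symm (e ⟨y, hy⟩)) = _
      rw [MulEquiv.symm_apply_apply]
      rfl
  · ext g
    constructor
    · rintro ⟨_, ⟨x, hx, rfl⟩, rfl⟩
      refine ⟨e x, hx, ?_⟩
      show φ (e.symm (e x)) = _
      rw [MulEquiv.symm_apply_apply]
      rfl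
    · rintro ⟨x, hx, rfl⟩
      refine ⟨_, ⟨e.symm x, ?_, rfl⟩, rfl⟩
      show e (e.symm x) ∈ M
      rwa [MulEquiv.apply_symm_apply]

/-- a maximal subgroup gives a maximal subgroup of `Ω` in `GL` -/
theorem isMaximalIn_map {G H : Type*} [Group G] [Group H] {ψ : G →* H} (hψ : Function.Injective ψ)
    {M : Subgroup G} (hM : IsCoatom M) : IsMaximalIn ψ.range (M.map ψ) := by
  refine ⟨lt_of_le_of_ne (Subgroup.map_le_range ψ M) fun h => hM.1 ?_, fun L h1 h2 => ?_⟩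
  · rw [MonoidHom.range_eq_map] at h
    exact Subgroup.map_injective hψ h
  · have h3 : (L.comap ψ).map ψ = L := Subgroup.map_comap_eq_self h2
    have h4 : M ≤ L.comap ψ := Subgroup.map_le_iff_le_comap.1 h1
    rcases eq_or_lt_of_le h4 with h5 | h5
    · left
      rw [← h3, ← h5]
    · right
      rw [← h3, hM.2 _ h5, MonoidHom.range_eq_map]

theorem three_eq (hF : Fintype.card F = 3) : (3 : F) = 0 := by
  have h := Nat.cast_card_eq_zero F
  rw [hF] at h
  exact_mod_cast h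

theorem two_ne (hF : Fintype.card F = 3) : (2 : F) ≠ 0 := by
  intro h
  have h3 := three_eq hF
  have : (1 : F) = 0 := by linear_combination h3 - h
  exact one_ne_zero this

theorem pp7 (hF : Fintype.card F = 3) : PP (Nat.card F) 6 7 := by
  refine ⟨by norm_num, ?_⟩
  rw [Nat.card_eq_fintype_card, hF, orderOf_eq_iff (by norm_num)]
  exact ⟨by decide, by decide⟩

theorem pp5 (hF : Fintype.card F = 3) : PP (Nat.card F) 4 5 := by
  refine ⟨by norm_num, ?_⟩
  rw [Nat.card_eq_fintype_card, hF, orderOf_eq_iff (by norm_num)]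
  exact ⟨by decide, by decide⟩

theorem pp13 (hF : Fintype.card F = 3) : PP (Nat.card F) 3 13 := by
  refine ⟨by norm_num, ?_⟩
  rw [Nat.card_eq_fintype_card, hF, orderOf_eq_iff (by norm_num)]
  exact ⟨by decide, by decide⟩

section emb

variable {ψ : POmega F ⇑(quadOdd 3 F) →* GL (Unit ⊕ (Fin 3 ⊕ Fin 3)) F} (hψ : Function.Injective ψ)
  (hr : ψ.range = omegaGL (⇑(quadOdd 3 F)))

include hψ hr

theorem iso_emb (x : POmega F ⇑(quadOdd 3 F)) (v : Unit ⊕ (Fin 3 ⊕ Fin 3) → F) :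
    quadOdd 3 F (lin (ψ x) v) = quadOdd 3 F v := by
  have h1 : ψ x ∈ omegaGL (⇑(quadOdd 3 F)) := by rw [← hr]; exact ⟨x, rfl⟩
  exact lin_iso (H := omegaGL (⇑(quadOdd 3 F))) (by rintro _ ⟨y, -, rfl⟩; exact y.2) h1 v

theorem lin_mul (x y : POmega F ⇑(quadOdd 3 F)) (v : Unit ⊕ (Fin 3 ⊕ Fin 3) → F) :
    lin (ψ (x * y)) v = lin (ψ x) (lin (ψ y) v) := by
  rw [map_mul, lin, lin, lin, Units.val_mul, Matrix.toLin'_mul]
  rfl

theorem lin_emb_ne {x : POmega F ⇑(quadOdd 3 F)} (hx : x ≠ 1) : lin (ψ x) ≠ 1 :=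
  lin_ne_one fun h => hx (hψ (by rw [h, map_one]))

theorem iso_of_order {r e : ℕ} (hp : PP (Nat.card F) e r) (he : 2 ≤ e) {x : POmega F ⇑(quadOdd 3 F)}
    (hx : orderOf x = r) : Iso (quadOdd 3 F) (lin (ψ x)) r ∧ lin (ψ x) ≠ 1 := by
  refine ⟨Iso.mk' hp he ?_ (iso_emb hψ hr x), lin_emb_ne hψ hr fun h => ?_⟩
  · rw [← H251.GeoCard.toLin_pow, ← map_pow, ← hx, pow_orderOf_eq_one, map_one]
    exact lin_one
  · rw [h, orderOf_one] at hx
    exact hp.prime.one_lt.ne hx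

theorem cube_of_order {x : POmega F ⇑(quadOdd 3 F)} (hx : x ^ 3 = 1) (v : Unit ⊕ (Fin 3 ⊕ Fin 3) → F) :
    lin (ψ x) (lin (ψ x) (lin (ψ x) v)) = v := by
  rw [← lin_mul hψ hr, ← lin_mul hψ hr, ← pow_two, ← pow_succ, hx, map_one, lin_one]
  rfl

theorem comm_of {x y : POmega F ⇑(quadOdd 3 F)} (h : x * y = y * x) (v : Unit ⊕ (Fin 3 ⊕ Fin 3) → F) :
    lin (ψ x) (lin (ψ y) v) = lin (ψ y) (lin (ψ x) v) := by
  rw [← lin_mul hψ hr, ← lin_mul hψ hr, h]

end emb

theorem finrank_seven : finrank F (Unit ⊕ (Fin 3 ⊕ Fin 3) → F) = 7 := by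
  rw [Module.finrank_fintype_fun_eq_card, H884.El.card_odd]

theorem nondeg_odd (h2 : (2 : F) ≠ 0) : Nondeg (quadOdd 3 F) := H955.nondeg_iff.2 (quadOdd_nondegenerate h2)

/-- no commuting elements of orders 7 and 3 -/
theorem not_21 (hF : Fintype.card F = 3) {x y : POmega F ⇑(quadOdd 3 F)} (hx : orderOf x = 3) (hy : orderOf y = 7)
    (h : x * y = y * x) : False := by
  have h2 := two_ne hF
  obtain ⟨ψ, hψ, hr, -⟩ := exists_emb h2
  obtain ⟨i1, i2⟩ := iso_of_order hψ hr (pp7 hF) (by norm_num) hy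
  have hx1 : x ≠ 1 := by
    rintro rfl
    rw [orderOf_one] at hx
    omega
  exact lin_emb_ne hψ hr hx1 (no21 (three_eq hF) (cube_of_order hψ hr (orderOf_dvd_iff_pow_eq_one.1 (dvd_of_eq hx))) i1
    (nondeg_odd h2) i2 (pp7 hF) finrank_seven (comm_of hψ hr h))

/-- no commuting elements of orders 7 and 5 -/
theorem not_35 (hF : Fintype.card F = 3) {x y : POmega F ⇑(quadOdd 3 F)} (hx : orderOf x = 5) (hy : orderOf y = 7)
    (h : x * y = y * x) : False := by
  have h2 := two_ne hF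
  obtain ⟨ψ, hψ, hr, -⟩ := exists_emb h2
  obtain ⟨i1, i2⟩ := iso_of_order hψ hr (pp7 hF) (by norm_num) hy
  obtain ⟨j1, j2⟩ := iso_of_order hψ hr (pp5 hF) (by norm_num) hx
  exact no35 i1 j1 (nondeg_odd h2) i2 j2 (pp7 hF) (pp5 hF) finrank_seven (comm_of hψ hr h)

/-! ### subspaces -/

section sub

variable {Q : QuadraticForm F (Unit ⊕ (Fin 3 ⊕ Fin 3) → F)} {x y : Module.End F (Unit ⊕ (Fin 3 ⊕ Fin 3) → F)}
  {W : Submodule F (Unit ⊕ (Fin 3 ⊕ Fin 3) → F)}

theorem nondeg_inf_cm {r : ℕ} (h : Iso Q x r) (hQ : Nondeg Q) (hW : Inv x W) (hWn : Nondeg (res Q W)) :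
    Nondeg (res Q (W ⊓ cm x)) := by
  rw [nondeg_res_iff]
  rintro v ⟨hvW, hvc⟩ hv
  refine (nondeg_res_iff (Q := Q) (W := W)).1 hWn v hvW fun z hz => ?_
  rw [← H951.inf_fx_sup_inf_cm h.ne0 h.pow hW] at hz
  obtain ⟨a, ha, b, hb, rfl⟩ := Submodule.mem_sup.1 hz
  have h6 : v ∈ perp Q (fx x) := by rw [perp_fx hQ h.iso h.ne0 h.pow]; exact hvc
  rw [polar_add_right, hv b hb, polar_comm, h6 a ha.2, add_zero]

/-- the totally singular case, order divisible by 7 -/
theorem ts_seven (h : Iso Q y 7) (hQ : Nondeg Q) (hy1 : y ≠ 1) (hr : PP (Nat.card F) 6 7) (hW : Inv y W)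
    (hWs : TS Q W) (hW0 : W ≠ ⊥) : False := by
  obtain ⟨hcm, -⟩ := h.even_case hQ hy1 hr ⟨3, rfl⟩ (by rw [finrank_seven]; omega)
  have h1 := h.ts_le hQ hy1 hr hcm hW hWs
  have h2 := h.finrank_add
  rw [finrank_seven] at h2
  have h3 : finrank F W ≠ 0 := fun h => hW0 (Submodule.finrank_eq_zero.1 h)
  have h4 : W = fx y := Submodule.eq_of_le_of_finrank_le h1 (by omega)
  refine ts_not_nondeg hWs le_rfl hW0 ?_
  rw [h4]
  exact nondeg_fx hQ h.iso h.ne0 h.pow

/-- the totally singular case, order divisible by 5 and 13 -/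
theorem ts_five (h : Iso Q y 5) (h13 : Iso Q x 13) (hQ : Nondeg Q) (hy1 : y ≠ 1) (hx1 : x ≠ 1)
    (hr : PP (Nat.card F) 4 5) (hr13 : PP (Nat.card F) 3 13) (hW : Inv y W) (hWx : Inv x W)
    (hWs : TS Q W) (hW0 : W ≠ ⊥) : False := by
  obtain ⟨hcm, -⟩ := h.even_case hQ hy1 hr ⟨2, rfl⟩ (by rw [finrank_seven]; omega)
  obtain ⟨hcm13, -⟩ := h13.odd_case hQ hx1 hr13 ⟨1, rfl⟩ (by rw [finrank_seven]; omega)
  have h1 := h.ts_le hQ hy1 hr hcm hW hWs
  have h2 := h.finrank_add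
  have h2' := h13.finrank_add
  rw [finrank_seven] at h2 h2'
  have h3 : finrank F W ≠ 0 := fun h => hW0 (Submodule.finrank_eq_zero.1 h)
  have h4 : finrank F W < 3 := by
    by_contra hcon
    have h4 : W = fx y := Submodule.eq_of_le_of_finrank_le h1 (by omega)
    refine ts_not_nondeg hWs le_rfl hW0 ?_
    rw [h4]
    exact nondeg_fx hQ h.iso h.ne0 h.pow
  have h5 := h13.le_fx hr13 hWx h4
  have h6 : W = fx x := Submodule.eq_of_le_of_finrank_le h5 (by omega)
  refine ts_not_nondeg hWs le_rfl hW0 ?_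
  rw [h6]
  exact nondeg_fx hQ h13.iso h13.ne0 h13.pow

theorem even_seven (h : Iso Q y 7) (hQ : Nondeg Q) (hy1 : y ≠ 1) (hr : PP (Nat.card F) 6 7) (hW : Inv y W)
    (hW0 : W ≠ ⊥) (he : Even (finrank F W)) : finrank F W = 6 := by
  obtain ⟨hcm, -⟩ := h.even_case hQ hy1 hr ⟨3, rfl⟩ (by rw [finrank_seven]; omega)
  have h2 := h.finrank_add
  rw [finrank_seven] at h2
  have h3 : finrank F W ≠ 0 := fun h => hW0 (Submodule.finrank_eq_zero.1 h)
  have h7 := Submodule.finrank_le W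
  rw [finrank_seven] at h7
  obtain ⟨k, hk⟩ := he
  rcases h.le_or hr hcm hW with h4 | h4
  · have := Submodule.finrank_mono h4
    omega
  · have := Submodule.finrank_mono h4
    omega

theorem even_thirteen (h : Iso Q x 13) (hQ : Nondeg Q) (hx1 : x ≠ 1) (hr : PP (Nat.card F) 3 13) (hW : Inv x W)
    (hWn : Nondeg (res Q W)) (hW0 : W ≠ ⊥) (he : Even (finrank F W)) : finrank F W = 6 := by
  obtain ⟨hcm, -⟩ := h.odd_case hQ hx1 hr ⟨1, rfl⟩ (by rw [finrank_seven]; omega)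
  have h2 := h.finrank_add
  rw [finrank_seven] at h2
  have h3 : finrank F W ≠ 0 := fun h => hW0 (Submodule.finrank_eq_zero.1 h)
  have h7 := Submodule.finrank_le W
  rw [finrank_seven] at h7
  obtain ⟨k, hk⟩ := he
  have h4 := h.dvd hr hW
  have h5 := H951.finrank_inf_add h.ne0 h.pow hW
  have h6 : finrank F ↥(W ⊓ fx x) ≤ finrank F (fx x) := Submodule.finrank_mono inf_le_right
  have h8 : Even (finrank F ↥(W ⊓ cm x)) := by
    refine H182.Cent.even_block Q (x := x) (fun v w => polar_isom h.iso v w) (r := 13) (by decide) h.pow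
      (hW.inf H951.inv_cm) (nondeg_res_iff.1 (nondeg_inf_cm h hQ hW hWn)) ?_
    rintro z ⟨-, hz⟩ hz1
    have h9 : z ∈ fx x ⊓ cm x := ⟨H951.mem_fx.2 hz1, hz⟩
    rw [(H951.isCompl_fx_cm h.ne0 h.pow).inf_eq_bot] at h9
    exact (Submodule.mem_bot F).1 h9
  obtain ⟨j, hj⟩ := h8
  obtain ⟨i, hi⟩ := h4
  omega

end sub

/-! ### frames -/

theorem map_pow_perm {D : Fin 7 → Submodule F (Unit ⊕ (Fin 3 ⊕ Fin 3) → F)} {x : Module.End F (Unit ⊕ (Fin 3 ⊕ Fin 3) → F)}
    {σ : Equiv.Perm (Fin 7)} (h : ∀ i, (D i).map x = D (σ i)) (j : ℕ) (i : Fin 7) :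
    (D i).map (x ^ j) = D ((σ ^ j) i) := by
  induction j generalizing i with
  | zero =>
    rw [pow_zero, pow_zero, Module.End.one_eq_id, Submodule.map_id]
    rfl
  | succ j ih =>
    rw [pow_succ, pow_succ, Module.End.mul_eq_comp, Submodule.map_comp, h, ih, Equiv.Perm.mul_apply]

/-- an isometry permuting a frame of nonsingular points -/
theorem frame_pow {Q : QuadraticForm F (Unit ⊕ (Fin 3 ⊕ Fin 3) → F)}
    {D : Fin 7 → Submodule F (Unit ⊕ (Fin 3 ⊕ Fin 3) → F)} {x : Module.End F (Unit ⊕ (Fin 3 ⊕ Fin 3) → F)}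
    (hD : IsNondegenerateMDecomposition (polar ⇑Q) 1 D) (hx : ∀ v, Q (x v) = Q v) {σ : Equiv.Perm (Fin 7)}
    (h : ∀ i, (D i).map x = D (σ i)) : x ^ (orderOf σ * 2) = 1 := by
  have hpow : ∀ (j : ℕ) v, Q ((x ^ j) v) = Q v := by
    intro j
    induction j with
    | zero => intro v; simp
    | succ j ih => intro v; rw [pow_succ, Module.End.mul_apply, ih, hx]
  have key : ∀ i, ∀ v ∈ D i, (x ^ (orderOf σ * 2)) v = v := by
    intro i v hv
    by_cases hv0 : v = 0
    · rw [hv0, map_zero]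
    have h1 : Submodule.span F {v} = D i := by
      refine Submodule.eq_of_le_of_finrank_eq ((Submodule.span_singleton_le_iff_mem _ _).2 hv) ?_
      rw [hD.decomp.finrank_eq, finrank_span_singleton hv0]
    have h3 : (x ^ orderOf σ) v ∈ D i := by
      have h4 := map_pow_perm h (orderOf σ) i
      rw [pow_orderOf_eq_one] at h4
      have h5 : D ((1 : Equiv.Perm (Fin 7)) i) = D i := rfl
      rw [h5] at h4
      rw [← h4]
      exact ⟨v, hv, rfl⟩
    rw [← h1] at h3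
    obtain ⟨c, hc⟩ := Submodule.mem_span_singleton.1 h3
    have hQv : Q v ≠ 0 := by
      intro h4
      obtain ⟨⟨w, hw, hw1⟩, -⟩ := hD.nondegenerate i v hv hv0
      rw [← h1] at hw
      obtain ⟨a, rfl⟩ := Submodule.mem_span_singleton.1 hw
      apply hw1
      have hvv : polar (⇑Q) v v = 2 * Q v := by
        rw [polar, ← two_smul F v, QuadraticMap.map_smul, smul_eq_mul]
        ring
      rw [polar_smul_left, hvv, h4]
      simp
    have h4 := hpow (orderOf σ) v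
    rw [← hc, QuadraticMap.map_smul, smul_eq_mul] at h4
    have h5 : c * c = 1 := mul_right_cancel₀ hQv (by rw [h4, one_mul])
    rw [mul_two, pow_add, Module.End.mul_apply, ← hc, map_smul, ← hc, smul_smul, h5, one_smul]
  refine LinearMap.ext fun v => ?_
  have h6 : (⊤ : Submodule F (Unit ⊕ (Fin 3 ⊕ Fin 3) → F)) ≤ LinearMap.eqLocus (x ^ (orderOf σ * 2)) 1 := by
    rw [← hD.decomp.iSup_eq_top]
    exact iSup_le fun i v hv => key i v hv
  exact h6 (Submodule.mem_top (x := v))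

theorem nine_dvd_lcm {a b : ℕ} (h : 9 ∣ Nat.lcm a b) : 9 ∣ a ∨ 9 ∣ b := by
  by_cases ha : a = 0
  · exact Or.inl (ha ▸ dvd_zero _)
  by_cases hb : b = 0
  · exact Or.inr (hb ▸ dvd_zero _)
  have h3 : 3 ^ 2 ∣ Nat.lcm a b := h
  rw [Nat.prime_three.pow_dvd_iff_le_factorization (Nat.lcm_ne_zero ha hb), Nat.factorization_lcm ha hb,
    Finsupp.sup_apply, le_sup_iff, ← Nat.prime_three.pow_dvd_iff_le_factorization ha,
    ← Nat.prime_three.pow_dvd_iff_le_factorization hb] at h3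
  exact h3

/-- permutations of at most eight points have no order divisible by 9 -/
theorem perm_nine {n : ℕ} (hn : n ≤ 8) (σ : Equiv.Perm (Fin n)) : ¬ 9 ∣ orderOf σ := by
  intro h
  rw [← Equiv.Perm.lcm_cycleType] at h
  have h9 : 9 ∣ σ.cycleType.lcm → ∃ a ∈ σ.cycleType, 9 ∣ a := by
    generalize σ.cycleType = s
    induction s using Multiset.induction_on with
    | empty => intro h; simp at h
    | cons a s ih =>
      intro h
      rw [Multiset.lcm_cons] at h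
      have h1 : 9 ∣ a ∨ 9 ∣ s.lcm := nine_dvd_lcm h
      rcases h1 with h1 | h1
      · exact ⟨a, Multiset.mem_cons_self _ _, h1⟩
      · obtain ⟨b, hb, hb1⟩ := ih h1
        exact ⟨b, Multiset.mem_cons_of_mem hb, hb1⟩
  obtain ⟨a, ha, ha9⟩ := h9 h
  have h1 := Equiv.Perm.le_card_support_of_mem_cycleType ha
  have h2 : σ.support.card ≤ n := by
    have := σ.support.card_le_univ
    rwa [Fintype.card_fin] at this
  have h3 := Equiv.Perm.two_le_of_mem_cycleType ha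
  have h4 := Nat.le_of_dvd (by omega) ha9
  omega

theorem nine_cycle {n : ℕ} {σ : Equiv.Perm (Fin n)} (h : 9 ∣ orderOf σ) : ∃ a ∈ σ.cycleType, 9 ∣ a := by
  rw [← Equiv.Perm.lcm_cycleType] at h
  revert h
  generalize σ.cycleType = s
  induction s using Multiset.induction_on with
  | empty => intro h; simp at h
  | cons a s ih =>
    intro h
    rw [Multiset.lcm_cons] at h
    rcases nine_dvd_lcm h with h1 | h1
    · exact ⟨a, Multiset.mem_cons_self _ _, h1⟩
    · obtain ⟨b, hb, hb1⟩ := ih h1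
      exact ⟨b, Multiset.mem_cons_of_mem hb, hb1⟩

theorem perm_ne_18 {n : ℕ} (hn : n ≤ 9) (σ : Equiv.Perm (Fin n)) : orderOf σ ≠ 18 := by
  intro h
  obtain ⟨a, ha, ha9⟩ := nine_cycle (σ := σ) (by rw [h]; norm_num)
  have h1 := Equiv.Perm.le_card_support_of_mem_cycleType ha
  have h2 : σ.support.card ≤ n := by
    have := σ.support.card_le_univ
    rwa [Fintype.card_fin] at this
  have h3 := Equiv.Perm.two_le_of_mem_cycleType ha
  have h4 := Nat.le_of_dvd (by omega) ha9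
  obtain rfl : a = 9 := by omega
  obtain ⟨s, hs⟩ := Multiset.exists_cons_of_mem ha
  have h5 := Equiv.Perm.sum_cycleType σ
  rw [hs, Multiset.sum_cons] at h5
  have h6 : s.sum = 0 := by omega
  have h7 : s = 0 := by
    refine Multiset.eq_zero_of_forall_notMem fun b hb => ?_
    have h8 := Equiv.Perm.two_le_of_mem_cycleType (σ := σ) (n := b) (by rw [hs]; exact Multiset.mem_cons_of_mem hb)
    have h9 := Multiset.single_le_sum (fun x _ => Nat.zero_le x) b hb
    omega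
  rw [← Equiv.Perm.lcm_cycleType, hs, h7] at h
  simp at h

/-! ### the maximal subgroups -/

/-- no elements of order 15 in the stabilizer of a nonsingular point -/
theorem not_15 (hF : Fintype.card F = 3) {M : Subgroup (POmega F ⇑(quadOdd 3 F))}
    {W : Submodule F (Unit ⊕ (Fin 3 ⊕ Fin 3) → F)} (hWd : finrank F W = 6) (hWn : Nondeg (res (quadOdd 3 F) W))
    (hM : pre (⇑(quadOdd 3 F)) M ≤ subspaceStabilizer W) : ∀ x ∈ M, orderOf x ≠ 15 := by
  intro x hx h15
  have h2 := two_ne hF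
  obtain ⟨ψ, hψ, hr, hpre⟩ := exists_emb h2
  have hinv : ∀ z ∈ M, Inv (lin (ψ z)) W := fun z hz => inv_of_mem (hM (by rw [hpre]; exact ⟨z, hz, rfl⟩))
  have hy : orderOf (x ^ 3) = 5 := by
    rw [orderOf_pow_of_dvd (by norm_num) (by rw [h15]; norm_num), h15]
  have hu : orderOf (x ^ 5) = 3 := by
    rw [orderOf_pow_of_dvd (by norm_num) (by rw [h15]; norm_num), h15]
  obtain ⟨i1, i2⟩ := iso_of_order hψ hr (pp5 hF) (by norm_num) hy
  have hu1 : x ^ 5 ≠ 1 := by
    intro h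
    rw [h, orderOf_one] at hu
    omega
  refine lin_emb_ne hψ hr hu1 (no15 (three_eq hF) (cube_of_order hψ hr ?_) (iso_emb hψ hr _) i1
    (nondeg_odd h2) i2 (pp5 hF) finrank_seven (comm_of hψ hr ?_) hWd hWn (hinv _ (pow_mem hx 3))
    (hinv _ (pow_mem hx 5)))
  · exact orderOf_dvd_iff_pow_eq_one.1 (dvd_of_eq hu)
  · rw [← pow_add, ← pow_add]

theorem exists_order {T : Type*} [Group T] [Finite T] {M : Subgroup T} {r : ℕ} (hr : r.Prime) (h : r ∣ Nat.card M) :
    ∃ x ∈ M, orderOf x = r := by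
  have := Fact.mk hr
  obtain ⟨x, hx⟩ := exists_prime_orderOf_dvd_card' r h
  exact ⟨x, x.2, by rw [Subgroup.orderOf_coe, hx]⟩

theorem geo_cases (hF : Fintype.card F = 3) {M : Subgroup (POmega F ⇑(quadOdd 3 F))} (hM : IsCoatom M)
    (h : 7 ∣ Nat.card M ∨ (5 ∣ Nat.card M ∧ 13 ∣ Nat.card M)) :
    (∀ x ∈ M, orderOf x ≠ 15) ∨ (∀ x ∈ M, orderOf x ≠ 18) ∨
      InOrthogonalResidualClass (pre (⇑(quadOdd 3 F)) M) := by
  have h2 := two_ne hF
  have hfin : Finite (POmega F ⇑(quadOdd 3 F)) := Quotient.finite _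
  obtain ⟨ψ, hψ, hr, hpre⟩ := exists_emb h2
  have hQ := nondeg_odd (F := F) h2
  have hmax : IsMaximalIn (omegaGL ⇑(quadOdd 3 F)) (pre (⇑(quadOdd 3 F)) M) := by
    rw [hpre, ← hr]
    exact isMaximalIn_map hψ hM
  have hmem : ∀ z ∈ M, ψ z ∈ pre (⇑(quadOdd 3 F)) M := fun z hz => by rw [hpre]; exact ⟨z, hz, rfl⟩
  obtain ⟨H, hH⟩ : ∃ H, H = pre (⇑(quadOdd 3 F)) M := ⟨_, rfl⟩
  rw [← hH] at hmax hmem ⊢
  rw [coe_quadOdd] at hmax
  rcases Cfsg.Agent.S5814.result (F := F) (by rw [hF]; decide) H hmax with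
    ⟨W, hW0, hWs, hHW⟩ | ⟨W, hW0, he, hWn, -, hHW⟩ | ⟨-, D, hD, hHD⟩ | ⟨F₀, s, P, hs, hcard, -⟩ | h6
  · -- totally singular subspaces
    exfalso
    rw [← coe_quadOdd] at hWs
    have hinv : ∀ z ∈ M, Inv (lin (ψ z)) W := fun z hz => inv_of_mem (by
      have := hmem z hz
      rw [hHW] at this
      exact this.1)
    rcases h with h | ⟨h5, h13⟩
    · obtain ⟨y, hy, hyo⟩ := exists_order (by norm_num) h
      obtain ⟨i1, i2⟩ := iso_of_order hψ hr (pp7 hF) (by norm_num) hyo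
      exact ts_seven i1 hQ i2 (pp7 hF) (hinv y hy) hWs hW0
    · obtain ⟨y, hy, hyo⟩ := exists_order (by norm_num) h5
      obtain ⟨x, hx, hxo⟩ := exists_order (by norm_num) h13
      obtain ⟨i1, i2⟩ := iso_of_order hψ hr (pp5 hF) (by norm_num) hyo
      obtain ⟨j1, j2⟩ := iso_of_order hψ hr (pp13 hF) (by norm_num) hxo
      exact ts_five i1 j1 hQ i2 j2 (pp5 hF) (pp13 hF) (hinv y hy) (hinv x hx) hWs hW0
  · -- nondegenerate subspaces
    left
    rw [← coe_quadOdd] at hWn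
    have hn : Nondeg (res (quadOdd 3 F) W) := by
      rw [nondeg_res_iff]
      intro x hx hxy
      by_contra hx0
      obtain ⟨-, y, hy, hy1⟩ := hWn x hx hx0
      exact hy1 (hxy y hy)
    have hinv : ∀ z ∈ M, Inv (lin (ψ z)) W := fun z hz => inv_of_mem (by
      have := hmem z hz
      rw [hHW] at this
      exact this.1)
    have hd : finrank F W = 6 := by
      rcases h with h | ⟨h5, h13⟩
      · obtain ⟨y, hy, hyo⟩ := exists_order (by norm_num) h
        obtain ⟨i1, i2⟩ := iso_of_order hψ hr (pp7 hF) (by norm_num) hyo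
        exact even_seven i1 hQ i2 (pp7 hF) (hinv y hy) hW0 he
      · obtain ⟨x, hx, hxo⟩ := exists_order (by norm_num) h13
        obtain ⟨j1, j2⟩ := iso_of_order hψ hr (pp13 hF) (by norm_num) hxo
        exact even_thirteen j1 hQ j2 (pp13 hF) (hinv x hx) hn hW0 he
    refine not_15 hF hd hn ?_
    rw [← hH, hHW]
    exact inf_le_left
  · -- frames
    right; left
    intro x hx h18
    have hD' := hD.decomp
    rw [← coe_quadOdd] at hD'
    have h4 := hmem x hx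
    rw [hHD] at h4
    obtain ⟨σ, hσ⟩ := h4.1
    have h5 := frame_pow hD' (iso_emb hψ hr x) hσ
    have h7 : x ^ (orderOf σ * 2) = 1 := by
      by_contra hne
      apply lin_emb_ne hψ hr hne
      rw [map_pow, lin, H251.GeoCard.toLin_pow]
      exact h5
    have h8 : 18 ∣ orderOf σ * 2 := by
      rw [← h18]
      exact orderOf_dvd_of_pow_eq_one h7
    refine perm_nine (by norm_num) σ ?_
    omega
  · exfalso
    have h4 : 2 ≤ Nat.card F₀ := Finite.one_lt_card
    have h5 : Nat.card F₀ ^ 2 ≤ Nat.card F₀ ^ s := Nat.pow_le_pow_right (by omega) hs.two_le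
    rw [← hcard, hF] at h5
    nlinarith
  · exact Or.inr (Or.inr h6)

end Cfsg.Agent.H833.RS.O73
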