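import Cfsg.Agent.H833.RS.Gen
import Cfsg.Agent.Lib.FieldAutCard
import Cfsg.Agent.H372.Orth
import Cfsg.Agent.H150.TwoP

/-!
# `NTC` for `Ω_{2m+1}(q)`, `(m, q) ≠ (3, 3)` (helper833, for S3502)
-/

set_option autoImplicit false
set_option linter.unusedSectionVars false

namespace Cfsg.Agent.H833.RS

open Cfsg Cfsg.Geo Cfsg.Agent.H439.Der Cfsg.Agent.LieClassical.OmegaReindex Cfsg.Agent.H377 Polynomial
open Cfsg.Agent.H265.Der
open scoped MatrixGroups Matrix

/-- the number of `j < N` not divisible by `v` -/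
theorem card_not_dvd {v N : ℕ} : N - N / v ≤ ((Finset.range N).filter fun j => ¬ v ∣ j).card + 1 := by
  have h1 := Finset.card_filter_add_card_filter_not (s := Finset.range N) (fun j => v ∣ j)
  rw [Finset.card_range] at h1
  have h2 : ((Finset.range N).filter fun j => v ∣ j).card ≤ (Finset.range (N / v + 1)).card := by
    refine Finset.card_le_card_of_injOn (fun j => j / v) (fun j hj => ?_) ?_
    · rw [Finset.mem_coe, Finset.mem_filter, Finset.mem_range] at hj
      rw [Finset.mem_coe, Finset.mem_range]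
      exact Nat.lt_succ_of_le (Nat.div_le_div_right hj.1.le)
    · intro a ha b hb hab
      rw [Finset.mem_coe, Finset.mem_filter] at ha hb
      have h3 : a / v = b / v := hab
      rw [← Nat.div_mul_cancel ha.2, ← Nat.div_mul_cancel hb.2, h3]
  rw [Finset.card_range] at h2
  omega

section

variable {ι : Type} [Fintype ι] [DecidableEq ι] {F : Type} [Field F] [Fintype F] {Q : QuadraticForm F (ι → F)}

/-- **Eigenvalue bound for two classes.** -/
theorem scc_bound (hS : SemiAut (⇑Q)) (hc : Subgroup.center (Omega F ⇑Q) = ⊥) {v N : ℕ} (hv : v.Prime)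
    (hvN : v ∣ N) {z : Omega F ⇑Q} (hz : orderOf (QuotientGroup.mk z : POmega F ⇑Q) = N) {L : Type}
    [Field L] [Algebra F L] {b : L} (hb : orderOf b = N) (i : L →ₗ[F] (ι → F)) (hi : Function.Injective i)
    (hzi : ∀ x, ac z *ᵥ i x = i (b * x)) (h : SCC (POmega F ⇑Q) v) :
    N - N / v ≤ 2 * (Nat.card (F ≃+* F) * Fintype.card ι) + 1 := by
  classical
  have hinj : Function.Injective (QuotientGroup.mk : Omega F ⇑Q → POmega F ⇑Q) := by
    intro x y hxy
    have h1 : x⁻¹ * y ∈ Subgroup.center (Omega F ⇑Q) := QuotientGroup.eq.1 hxy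
    rw [hc, Subgroup.mem_bot] at h1
    exact (inv_mul_eq_one.1 h1)
  obtain ⟨x₀, y₀, h⟩ := h
  obtain ⟨g₁, rfl⟩ := QuotientGroup.mk_surjective x₀
  obtain ⟨g₂, rfl⟩ := QuotientGroup.mk_surjective y₀
  have : Finite (F ≃+* F) := Finite.of_injective (fun f : F ≃+* F => (f : F → F)) DFunLike.coe_injective
  have := Fintype.ofFinite (F ≃+* F)
  let R : Omega F ⇑Q → (F ≃+* F) → Finset L := fun g σ =>
    (((ac g).charpoly.map (σ : F →+* F)).map (algebraMap F L)).roots.toFinset
  have hR : ∀ g σ, (R g σ).card ≤ Fintype.card ι := by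
    intro g σ
    refine (Multiset.toFinset_card_le _).trans ((card_roots' _).trans ?_)
    refine (natDegree_map_le).trans ((natDegree_map_le).trans ?_)
    rw [Matrix.charpoly_natDegree_eq_dim]
  -- the eigenvalues
  have hzj : ∀ (j : ℕ) (x : L), ac (z ^ j) *ᵥ i x = i (b ^ j * x) := by
    intro j
    induction j with
    | zero => intro x; rw [pow_zero, ac_one, Matrix.one_mulVec, pow_zero, one_mul]
    | succ j ih =>
      intro x
      rw [pow_succ', ac_mul, ← Matrix.mulVec_mulVec, ih, hzi, pow_succ', mul_assoc]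
  have haev : ∀ (j : ℕ) (P : F[X]) (x : L), (aeval (ac (z ^ j)) P) *ᵥ i x = i (aeval (b ^ j) P * x) := by
    intro j P x
    induction P using Polynomial.induction_on' with
    | add p q hp hq => rw [map_add, map_add, Matrix.add_mulVec, hp, hq, add_mul, map_add]
    | monomial n c =>
      rw [aeval_monomial, aeval_monomial, ← Matrix.mulVec_mulVec]
      have h1 : ∀ (n : ℕ) (x : L), (ac (z ^ j)) ^ n *ᵥ i x = i ((b ^ j) ^ n * x) := by
        intro n
        induction n with
        | zero => intro x; rw [pow_zero, Matrix.one_mulVec, pow_zero, one_mul]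
        | succ n ih => intro x; rw [pow_succ', ← Matrix.mulVec_mulVec, ih, hzj, pow_succ', mul_assoc]
      rw [h1, ← Algebra.smul_def, smul_mul_assoc, map_smul, Algebra.algebraMap_eq_smul_one,
        Matrix.smul_mulVec, Matrix.one_mulVec]
  have hroot : ∀ j : ℕ, aeval (b ^ j) (ac (z ^ j)).charpoly = 0 := by
    intro j
    have h1 := haev j (ac (z ^ j)).charpoly 1
    rw [Matrix.aeval_self_charpoly, Matrix.zero_mulVec, mul_one] at h1
    exact hi (by rw [← h1, map_zero])
  let U : Finset L := Finset.univ.biUnion (R g₁) ∪ Finset.univ.biUnion (R g₂)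
  have hU : U.card ≤ 2 * (Nat.card (F ≃+* F) * Fintype.card ι) := by
    have h1 : ∀ g, (Finset.univ.biUnion (R g)).card ≤ Nat.card (F ≃+* F) * Fintype.card ι := by
      intro g
      refine Finset.card_biUnion_le.trans ((Finset.sum_le_card_nsmul _ _ _ fun σ _ => hR g σ).trans ?_)
      rw [Finset.card_univ, smul_eq_mul, Nat.card_eq_fintype_card]
    refine (Finset.card_union_le _ _).trans ?_
    have := h1 g₁
    have := h1 g₂
    omega
  have hmem : ∀ j ∈ (Finset.range N).filter (fun j => ¬ v ∣ j), b ^ j ∈ U := by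
    intro j hj
    rw [Finset.mem_filter, Finset.mem_range] at hj
    have hj0 : 0 < j := Nat.pos_of_ne_zero (by rintro rfl; exact hj.2 (dvd_zero _))
    have hord : v ∣ orderOf (QuotientGroup.mk (z ^ j) : POmega F ⇑Q) := by
      have h1 : (QuotientGroup.mk (z ^ j) : POmega F ⇑Q) = (QuotientGroup.mk z : POmega F ⇑Q) ^ j := rfl
      rw [h1, orderOf_pow, hz]
      have h3 : ¬ v ∣ N.gcd j := fun h4 => hj.2 (h4.trans (Nat.gcd_dvd_right _ _))
      have h4 : v ∣ N / N.gcd j * N.gcd j := by rw [Nat.div_mul_cancel (Nat.gcd_dvd_left _ _)]; exact hvN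
      exact ((Nat.Prime.dvd_mul hv).1 h4).resolve_right h3
    have key : ∀ g : Omega F ⇑Q, (∃ φ : POmega F ⇑Q ≃* POmega F ⇑Q, φ (QuotientGroup.mk g) = QuotientGroup.mk (z ^ j)) →
        b ^ j ∈ Finset.univ.biUnion (R g) := by
      rintro g ⟨φ, hφ⟩
      obtain ⟨σ, μ, T, -, hs, -, hT⟩ := hS φ
      obtain ⟨g', h1, h2⟩ := hT g
      have h3 : g' = z ^ j := hinj (by rw [← h2, hφ])
      rw [h3] at h1
      have h5 := charpoly_semi hs h1
      rw [Finset.mem_biUnion]
      refine ⟨σ, Finset.mem_univ _, ?_⟩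
      change b ^ j ∈ (((ac g).charpoly.map (σ : F →+* F)).map (algebraMap F L)).roots.toFinset
      rw [← h5, Multiset.mem_toFinset, mem_roots']
      refine ⟨((ac (z ^ j)).charpoly_monic.map _).ne_zero, ?_⟩
      rw [IsRoot.def, eval_map_algebraMap]
      exact hroot j
    rcases h _ hord with h1 | h1
    · exact Finset.mem_union_left _ (key g₁ h1)
    · exact Finset.mem_union_right _ (key g₂ h1)
  have hpinj : Set.InjOn (fun j => b ^ j) ((Finset.range N).filter (fun j => ¬ v ∣ j) : Finset ℕ) := by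
    intro x hx y hy hxy
    rw [Finset.mem_coe, Finset.mem_filter, Finset.mem_range] at hx hy
    exact pow_injOn_Iio_orderOf (by rw [Set.mem_Iio, hb]; exact hx.1) (by rw [Set.mem_Iio, hb]; exact hy.1) hxy
  have h1 := Finset.card_le_card_of_injOn (fun j => b ^ j) hmem hpinj
  have h2 := card_not_dvd (v := v) (N := N)
  omega

end

/-! ### elements of order `v p` -/

section vp

open Module Cfsg.Agent.H150 Cfsg.Agent.LieClassical.OrthCount

variable {F : Type} [Field F]

/-- the form `x² + y z` -/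
noncomputable def q3 (F : Type) [Field F] : QuadraticForm F (F × (F × F)) :=
  QuadraticMap.linMulLin (LinearMap.fst F F (F × F)) (LinearMap.fst F F (F × F)) +
  QuadraticMap.linMulLin (LinearMap.fst F F F ∘ₗ LinearMap.snd F F (F × F))
    (LinearMap.snd F F F ∘ₗ LinearMap.snd F F (F × F))

theorem q3_apply (x : F × (F × F)) : q3 F x = x.1 * x.1 + x.2.1 * x.2.2 := rfl

theorem q3_nd (h2 : (2 : F) ≠ 0) : ND (q3 F) := by
  have hp : ∀ x y : F × (F × F), QuadraticMap.polar (⇑(q3 F)) x y =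
      2 * (x.1 * y.1) + x.2.1 * y.2.2 + y.2.1 * x.2.2 := by
    intro x y
    rw [QuadraticMap.polar, q3_apply, q3_apply, q3_apply]
    simp only [Prod.fst_add, Prod.snd_add]
    ring
  intro x hx
  have h1 := hx (1, (0, 0))
  have h3 := hx (0, (1, 0))
  have h4 := hx (0, (0, 1))
  rw [hp] at h1 h3 h4
  refine Prod.ext ?_ (Prod.ext ?_ ?_)
  · have h5 : 2 * x.1 = 0 := by simpa using h1
    exact (mul_eq_zero.1 h5).resolve_left h2
  · simpa using h4
  · simpa using h3

/-- a unipotent isometry of `q3` -/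
def u3 (F : Type) [Field F] : (F × (F × F)) →ₗ[F] (F × (F × F)) where
  toFun x := (x.1 + x.2.2, (x.2.1 - 2 * x.1 - x.2.2, x.2.2))
  map_add' x y := by
    refine Prod.ext ?_ (Prod.ext ?_ rfl)
    · show x.1 + y.1 + (x.2.2 + y.2.2) = x.1 + x.2.2 + (y.1 + y.2.2)
      ring
    · show x.2.1 + y.2.1 - 2 * (x.1 + y.1) - (x.2.2 + y.2.2) = x.2.1 - 2 * x.1 - x.2.2 + (y.2.1 - 2 * y.1 - y.2.2)
      ring
  map_smul' a x := by
    refine Prod.ext ?_ (Prod.ext ?_ rfl)
    · show a * x.1 + a * x.2.2 = a * (x.1 + x.2.2)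
      ring
    · show a * x.2.1 - 2 * (a * x.1) - a * x.2.2 = a * (x.2.1 - 2 * x.1 - x.2.2)
      ring

theorem u3_pow (j : ℕ) (x : F × (F × F)) :
    ((u3 F) ^ j) x = (x.1 + j * x.2.2, (x.2.1 - 2 * j * x.1 - j ^ 2 * x.2.2, x.2.2)) := by
  induction j with
  | zero => simp
  | succ j ih =>
    rw [pow_succ', Module.End.mul_apply, ih]
    refine Prod.ext ?_ (Prod.ext ?_ rfl)
    · show x.1 + j * x.2.2 + x.2.2 = x.1 + ((j + 1 : ℕ) : F) * x.2.2
      push_cast; ring
    · show x.2.1 - 2 * j * x.1 - j ^ 2 * x.2.2 - 2 * (x.1 + j * x.2.2) - x.2.2 =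
        x.2.1 - 2 * ((j + 1 : ℕ) : F) * x.1 - ((j + 1 : ℕ) : F) ^ 2 * x.2.2
      push_cast; ring

theorem u3_pow_eq_one_iff (p : ℕ) [CharP F p] (j : ℕ) : (u3 F) ^ j = 1 ↔ p ∣ j := by
  rw [← CharP.cast_eq_zero_iff F p]
  constructor
  · intro h
    have h1 := LinearMap.congr_fun h (0, (0, 1))
    rw [u3_pow] at h1
    have h3 := congrArg (fun z : F × (F × F) => z.1) h1
    simpa using h3
  · intro h
    apply LinearMap.ext
    intro x
    rw [u3_pow, h]
    simp

theorem exists_mul_p [Fintype F] (p : ℕ) [hp : Fact p.Prime] [CharP F p] (h2 : (2 : F) ≠ 0) {m : ℕ} (hm : 1 ≤ m)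
    {ε : ℤ} {v : ℕ} (hv : Odd v) (hvp : Nat.Coprime v p) (h : Elt F m ε v) :
    ∃ g : POmega F (quadFormOdd (m + 1) F), orderOf g = v * p := by
  obtain ⟨hv0, Q, g, hQ, -, hg, ho⟩ := h
  have hp2 : p ≠ 2 := by
    rintro rfl
    exact h2 (by exact_mod_cast CharP.cast_eq_zero F 2)
  have hpodd : Odd p := hp.out.odd_of_ne_two hp2
  obtain ⟨a, ha⟩ := exists_og Q g hv0 (by rw [← ho]; exact pow_orderOf_eq_one g) hg
  have hao : orderOf a = v := H377.orderOf_eq_of_forall fun j => by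
    rw [og_pow_eq_one_iff a _ ha, ← orderOf_dvd_iff_pow_eq_one, ho]
  obtain ⟨t, ht⟩ := exists_og (q3 F) (u3 F) hp.out.pos ((u3_pow_eq_one_iff p p).2 dvd_rfl) (fun v => by
    rw [q3_apply, q3_apply]
    show (v.1 + v.2.2) * (v.1 + v.2.2) + (v.2.1 - 2 * v.1 - v.2.2) * v.2.2 = _
    ring)
  have hto : orderOf t = p := H377.orderOf_eq_of_forall fun j => by
    rw [og_pow_eq_one_iff t _ ht, u3_pow_eq_one_iff p]
  have hf3 : finrank F (F × (F × F)) = 3 := by
    rw [Module.finrank_prod, Module.finrank_prod, Module.finrank_self]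
  have hd : finrank F (Fin (2 * m) → F) + finrank F (F × (F × F)) = 2 * (m + 1) + 1 := by
    rw [Module.finrank_fin_fun, hf3]
    ring
  have hPnd : ND (Q.prod (q3 F)) := prod_nd _ _ hQ (q3_nd h2)
  have hmem : prodHom Q (q3 F) (a, t) ∈ commutator (OG (Q.prod (q3 F))) := by
    refine odd_mem_commutator h2 (Q.prod (q3 F)) hPnd (by rw [Module.finrank_prod, hd]; omega) _ (hv.mul hpodd) ?_
    have h5 : a ^ (v * p) = 1 := by rw [pow_mul, orderOf_dvd_iff_pow_eq_one.1 (dvd_of_eq hao), one_pow]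
    have h6 : t ^ (v * p) = 1 := by rw [mul_comm, pow_mul, orderOf_dvd_iff_pow_eq_one.1 (dvd_of_eq hto), one_pow]
    rw [← map_pow, Prod.pow_mk, h5, h6]
    exact map_one _
  obtain ⟨g, hg⟩ := exists_pomega_of_prod h2 Q (q3 F) hQ (q3_nd h2) (by omega) hd a t hmem
  exact ⟨g, by rw [hg, hao, hto, hvp.lcm_eq_mul]⟩

end vp

/-! ### `NTC` -/

open Cfsg.Agent.H94.PG

theorem pow_big {n : ℕ} (hn : 4 ≤ n) : 14 * n + 4 < 3 ^ n := by
  induction n, hn using Nat.le_induction with
  | base => norm_num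
  | succ n hn ih => rw [pow_succ]; omega

/-- the odd primes different from the characteristic -/
theorem dvd_cases {F : Type} [Field F] [Fintype F] {m : ℕ} (hm : 3 ≤ m) (hodd : Odd (Fintype.card F)) {v : ℕ}
    (hv : v.Prime) (hv2 : v ≠ 2) (hvF : ¬ v ∣ Nat.card F) (hd : v ∣ Nat.card (POmega F (quadFormOdd m F))) :
    (∃ i, 1 ≤ i ∧ i < m ∧ v ∣ Nat.card F ^ (2 * i) - 1) ∨ v ∣ Nat.card F ^ m - 1 ∨ v ∣ Nat.card F ^ m + 1 := by
  have h1 : v ∣ 2 * Nat.card (POmega F (quadFormOdd m F)) := Dvd.dvd.mul_left hd 2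
  rw [Cfsg.Agent.S0292.result (F := F) rfl hodd m hm, ← Nat.card_eq_fintype_card] at h1
  rcases (Nat.Prime.dvd_mul hv).1 h1 with h2 | h2
  · exact absurd (hv.dvd_of_dvd_pow h2) hvF
  · obtain ⟨i, hi, hi2⟩ := (hv.prime.dvd_finsetProd_iff _).1 h2
    rw [Finset.mem_range] at hi
    rcases Nat.lt_or_ge (i + 1) m with h3 | h3
    · exact Or.inl ⟨i + 1, by omega, h3, hi2⟩
    · rw [show i + 1 = m by omega, mul_comm, pow_mul] at hi2
      have h4 : (Nat.card F ^ m) ^ 2 - 1 = (Nat.card F ^ m + 1) * (Nat.card F ^ m - 1) := by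
        rw [← Nat.sq_sub_sq, one_pow]
      rw [h4] at hi2
      exact Or.inr ((Nat.Prime.dvd_mul hv).1 hi2).symm

/-- the numerical part of the eigenvalue bound -/
theorem num_contra {p f m v N : ℕ} (hp : p.Prime) (hp3 : 3 ≤ p) (hf : 1 ≤ f) (hm : 3 ≤ m)
    (h33 : ¬ (m = 3 ∧ p ^ f = 3)) (hv3 : 3 ≤ v) (hle : (p ^ f) ^ m ≤ 2 * N + 1)
    (h : N - N / v ≤ 2 * (f * (2 * m + 1)) + 1) : False := by
  have h1 : N / v ≤ N / 3 := Nat.div_le_div_left hv3 (by norm_num)
  have h2 : 2 * N ≤ 6 * (f * (2 * m + 1)) + 3 := by omega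
  rw [← pow_mul] at hle
  have h3 : f * (2 * m + 1) = 2 * (f * m) + f := by ring
  have h4 : f * 3 ≤ f * m := Nat.mul_le_mul_left _ hm
  rw [h3] at h2
  have h5 : 3 ^ (f * m) ≤ p ^ (f * m) := Nat.pow_le_pow_left hp3 _
  rcases Nat.lt_or_ge (f * m) 4 with h6 | h6
  · obtain rfl : f = 1 := by omega
    obtain rfl : m = 3 := by omega
    have h7 : p ≠ 3 := fun h7 => h33 ⟨rfl, by rw [h7]; norm_num⟩
    have h8 : p ≠ 4 := by rintro rfl; exact absurd hp (by norm_num)
    have h9 : 5 ≤ p := by omega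
    have h10 : 5 ^ 3 ≤ p ^ 3 := Nat.pow_le_pow_left h9 3
    norm_num at hle h10 h2
    omega
  · have h7 := pow_big h6
    omega

/-- **`NTC` for `Ω_{2m+1}(q)`.** -/
theorem ntc_odd {F : Type} [Field F] [Fintype F] {m : ℕ} (hm : 3 ≤ m) (hodd : Odd (Fintype.card F))
    (h33 : ¬ (m = 3 ∧ Fintype.card F = 3)) : NTC (POmega F (quadFormOdd m F)) := by
  intro v hv hd
  have ho : Odd (Nat.card F) := by rwa [Nat.card_eq_fintype_card]
  have h2 : (2 : F) ≠ 0 := H377.OOdd.two_ne_zero_of_odd ho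
  have hfin : Finite (POmega F (quadFormOdd m F)) := Quotient.finite _
  obtain ⟨p, hp⟩ := CharP.exists F
  have hpp : p.Prime := CharP.char_is_prime F p
  have := Fact.mk hpp
  obtain ⟨f, -, hf⟩ := FiniteField.card F p
  have hpF : p ∣ Nat.card F := by rw [Nat.card_eq_fintype_card, hf]; exact dvd_pow_self p f.ne_zero
  have hp2 : p ≠ 2 := by
    rintro rfl
    rw [hf, Nat.odd_pow_iff f.ne_zero] at hodd
    exact absurd hodd (by decide)
  have hp3 : 3 ≤ p := by
    have := hpp.two_le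
    omega
  have hpo : Odd p := hpp.odd_of_ne_two hp2
  have hprod : ∀ {a b : ℕ}, Adj (POmega F (quadFormOdd m F)) a b →
      ∃ x : POmega F (quadFormOdd m F), orderOf x = a * b := by
    rintro a b ⟨ha, hb, hab, x, y, hx, hy, hxy⟩
    refine ⟨x * y, ?_⟩
    rw [hxy.orderOf_mul_eq_mul_orderOf_of_coprime, hx, hy]
    rw [hx, hy]
    exact (Nat.coprime_primes ha hb).2 hab
  have hq3 : 3 ≤ Nat.card F := hp3.trans (Nat.le_of_dvd Nat.card_pos hpF)
  obtain ⟨w, hw⟩ := exists_prime_orderOf_dvd_card' (hp := Fact.mk hv) v hd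
  -- the prime 2
  by_cases hv2 : v = 2
  · subst hv2
    obtain ⟨x, hx⟩ := H372.exists_eight_omegaOdd (F := F) h2 hm
    obtain ⟨y, hy⟩ := hprod (H377.OOdd.adj_two_of_char ho hm hpp hp2 hpF)
    refine not_SCC_of_orders (x := w) (y := x) (z := y) (by rw [hw]) (by rw [hx]; norm_num)
      (by rw [hy]; exact Dvd.intro_left _ rfl) ?_ ?_ ?_
    · rw [hw, hx]; norm_num
    · rw [hw, hy]; omega
    · rw [hx, hy]
      obtain ⟨c, hc⟩ := hpo
      omega
  have hvo : Odd v := hv.odd_of_ne_two hv2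
  have hv3 : 3 ≤ v := by
    have := hv.two_le
    omega
  -- the characteristic
  by_cases hvp : v = p
  · subst hvp
    obtain ⟨y, hy⟩ := hprod (H377.OOdd.adj_two_of_char ho hm hpp hp2 hpF)
    have h5 : 5 ≤ Nat.card F ^ (m - 2) := by
      rcases Nat.lt_or_ge m 4 with h | h
      · obtain rfl : m = 3 := by omega
        have h6 : Nat.card F ≠ 3 := fun h6 => h33 ⟨rfl, by rw [← Nat.card_eq_fintype_card, h6]⟩
        obtain ⟨c, hc⟩ := ho
        rw [show 3 - 2 = 1 from rfl, pow_one]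
        omega
      · calc 5 ≤ 3 ^ 2 := by norm_num
          _ ≤ Nat.card F ^ 2 := Nat.pow_le_pow_left hq3 2
          _ ≤ Nat.card F ^ (m - 2) := Nat.pow_le_pow_right (by omega) (by omega)
    have ho5 : Odd (Nat.card F ^ (m - 2)) := ho.pow
    obtain ⟨t, ht⟩ := ho5
    have hel := (H377.elt_char (F := F) hpp le_rfl).prod (H377.elt_tor_minus (F := F) (k := m - 2)
      (N := 2 * (t + 1)) (by omega) (by rw [ht]; exact ⟨1, by ring⟩))
    have hco : Nat.Coprime v (2 * (t + 1)) := by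
      rw [hv.coprime_iff_not_dvd]
      intro h6
      have h7 : v ∣ Nat.card F ^ (m - 2) := dvd_pow hpF (by omega)
      have h8 : v ∣ Nat.card F ^ (m - 2) + 1 := by rw [ht]; exact h6.trans ⟨1, by ring⟩
      exact hv.one_lt.ne' (Nat.dvd_one.1 ((Nat.dvd_add_right h7).1 h8))
    rw [show 2 + (m - 2) = m by omega, hco.lcm_eq_mul] at hel
    obtain ⟨x, hx⟩ := H377.exists_odd_of_elt h2 hm hel (N := v * (t + 1)) (fun j => by
      rw [show v * (2 * (t + 1)) = 2 * (v * (t + 1)) by ring]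
      exact Nat.mul_dvd_mul_iff_left (by norm_num))
    refine not_SCC_of_orders (x := w) (y := y) (z := x) (by rw [hw]) (by rw [hy]; exact Dvd.intro _ rfl)
      (by rw [hx]; exact Dvd.intro _ rfl) ?_ ?_ ?_
    · rw [hw, hy]; omega
    · rw [hw, hx]
      intro h6
      have h7 : v * 1 = v * (t + 1) := by rw [mul_one]; exact h6
      have := Nat.eq_of_mul_eq_mul_left hv.pos h7
      omega
    · rw [hy, hx]
      intro h6
      have := Nat.eq_of_mul_eq_mul_left hv.pos h6
      omega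
  have hvF : ¬ v ∣ Nat.card F := by
    intro h
    rw [Nat.card_eq_fintype_card, hf] at h
    exact hvp ((Nat.prime_dvd_prime_iff_eq hv hpp).1 (hv.dvd_of_dvd_pow h))
  have hvpc : Nat.Coprime v p := (Nat.coprime_primes hv hpp).2 hvp
  rcases dvd_cases hm hodd hv hv2 hvF hd with ⟨i, hi, him, hid⟩ | h3
  · -- support smaller than `2m`
    obtain ⟨y, hy⟩ := hprod (H377.OOdd.adj_two_of_dvd ho hm hi him hv hv2 hid)
    have h4 : ∃ ε : ℤ, Elt F (m - 1) ε v := by
      have h5 : ∃ ε : ℤ, Elt F i ε v := by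
        rcases H377.OOdd.elt_of_dvd hi hv hid with h | h
        · exact ⟨_, h⟩
        · exact ⟨_, h⟩
      obtain ⟨ε, h5⟩ := h5
      have h6 := h5.prod (H377.elt_one (F := F) (m - 1 - i))
      rw [show i + (m - 1 - i) = m - 1 by omega, Nat.lcm_one_right] at h6
      exact ⟨_, h6⟩
    obtain ⟨ε, h4⟩ := h4
    obtain ⟨x, hx⟩ : ∃ x : POmega F (quadFormOdd m F), orderOf x = v * p := by
      have h5 := exists_mul_p (F := F) p h2 (m := m - 1) (by omega) hvo hvpc h4
      rwa [show m - 1 + 1 = m by omega] at h5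
    refine not_SCC_of_orders (x := w) (y := y) (z := x) (by rw [hw]) (by rw [hy]; exact Dvd.intro _ rfl)
      (by rw [hx]; exact Dvd.intro _ rfl) ?_ ?_ ?_
    · rw [hw, hy]; omega
    · rw [hw, hx]
      intro h6
      have h7 : v * 1 = v * p := by rw [mul_one]; exact h6
      have := Nat.eq_of_mul_eq_mul_left hv.pos h7
      omega
    · rw [hy, hx]
      intro h6
      have := Nat.eq_of_mul_eq_mul_left hv.pos h6
      omega
  · -- support of dimension `2m`
    intro hscc
    have hS := semiAut_odd (F := F) hm h2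
    have hc : Subgroup.center (Omega F ⇑(quadOdd m F)) = ⊥ := by
      refine LieClassical.OrthCenter.center_omega_eq_bot_of_odd h2 (quadOdd_nondegenerate h2)
        (by rw [H884.El.card_odd]; omega) (by rw [H884.El.card_odd]; exact ⟨m, rfl⟩)
        ⟨Pi.single (.inr (.inl ⟨0, by omega⟩)) 1, ?_, ?_⟩
      · intro h
        have := congrFun h (.inr (.inl ⟨0, by omega⟩))
        rw [Pi.single_eq_same] at this
        exact one_ne_zero this
      · rw [coe_quadOdd]
        unfold Cfsg.quadFormOdd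
        simp
    have hscc' : SCC (POmega F ⇑(quadOdd m F)) v := by rw [coe_quadOdd]; exact hscc
    have hcA : Nat.card (F ≃+* F) = f := Lib.FieldAutCard.card_ringAut f.pos hf
    have hq : Odd (Nat.card F ^ m) := ho.pow
    obtain ⟨t, ht⟩ := hq
    have hco : Nat.Coprime v 2 := (Nat.coprime_primes hv Nat.prime_two).2 hv2
    have hpf : (p ^ (f : ℕ)) ^ m = Nat.card F ^ m := by rw [Nat.card_eq_fintype_card, hf]
    have h33' : ¬ (m = 3 ∧ p ^ (f : ℕ) = 3) := fun h => h33 ⟨h.1, by rw [hf]; exact h.2⟩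
    rcases h3 with h3 | h3
    · have h4 : Nat.card F ^ m - 1 = 2 * t := by omega
      obtain ⟨K, _, _, z, b, i, hz, hb, hi, hzi, -⟩ := exists_plus (F := F) h2 hm (N := t) (by rw [h4])
      rw [h4] at h3
      have h5 := scc_bound hS hc hv (hco.dvd_of_dvd_mul_left h3) hz hb i hi hzi hscc'
      rw [hcA, H884.El.card_odd] at h5
      exact num_contra hpp hp3 f.pos hm h33' hv3 (by rw [hpf]; omega) h5
    · have h4 : Nat.card F ^ m + 1 = 2 * (t + 1) := by omega
      obtain ⟨K, _, _, z, b, i, hz, hb, hi, hzi, -⟩ := exists_minus (F := F) h2 hm (N := t + 1) (by rw [h4])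
      rw [h4] at h3
      have h5 := scc_bound hS hc hv (hco.dvd_of_dvd_mul_left h3) hz hb i hi hzi hscc'
      rw [hcA, H884.El.card_odd] at h5
      exact num_contra hpp hp3 f.pos hm h33' hv3 (by rw [hpf]; omega) h5

end Cfsg.Agent.H833.RS
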