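import Cfsg.Agent.H833.RS.Gen

/-!
# Subgroups of `Ω_{4k+1}(q)` missing a type of elements of order `r` (helper833, for S3502)

* `three_of_type`, `special_three`, `cyc_three`
-/

set_option autoImplicit false
set_option linter.unusedSectionVars false

namespace Cfsg.Agent.H833.RS

open Cfsg Cfsg.Geo Cfsg.Agent.H439.Der Cfsg.Agent.LieClassical.OmegaReindex Cfsg.Agent.H377
open Cfsg.Agent.LieClassical.OrthCore QuadraticMap Module
open Cfsg.Agent.H884.El (PP pre)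
open Cfsg.Agent.H955 (IsPlus res perp)
open Cfsg.Agent.H265.Der
open scoped MatrixGroups Matrix

section

variable {ι : Type} [Fintype ι] [DecidableEq ι] {F : Type} [Field F] [Fintype F] {Q : QuadraticForm F (ι → F)}

/-- a subgroup missing a type of elements of order `r` -/
theorem three_of_type (hS : SemiAut (⇑Q)) {r n : ℕ} (hr : r.Prime) (hr2 : r ≠ 2) {M : Subgroup (POmega F ⇑Q)}
    {z : Omega F ⇑Q} (h1 : orderOf (QuotientGroup.mk z : POmega F ⇑Q) = 4 * r) (h2 : (z ^ 4) ^ r = 1)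
    (h3 : fixn (z ^ 4) = n) (hM : ∀ x ∈ M, orderOf x = r → ¬ Ty r x n) : Three (POmega F ⇑Q) M := by
  have hr0 := hr.pos
  have hx : orderOf ((QuotientGroup.mk z : POmega F ⇑Q) ^ 4) = r := by
    rw [orderOf_pow_of_dvd (by norm_num) (by rw [h1]; exact Dvd.intro _ rfl), h1]
    exact Nat.mul_div_cancel_left _ (by norm_num)
  have hx2 : orderOf ((QuotientGroup.mk z : POmega F ⇑Q) ^ 2) = 2 * r := by
    rw [orderOf_pow_of_dvd (by norm_num) (by rw [h1]; exact ⟨2 * r, by ring⟩), h1]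
    omega
  have hty : Ty r ((QuotientGroup.mk z : POmega F ⇑Q) ^ 4) n := ⟨z ^ 4, rfl, h2, h3⟩
  have key : ∀ φ : POmega F ⇑Q ≃* POmega F ⇑Q, φ ((QuotientGroup.mk z : POmega F ⇑Q) ^ 4) ∉ M := by
    intro φ hφ
    refine hM _ hφ ?_ (hty.map hS φ)
    rw [H938.Sax.orderOf_mulEquiv, hx]
  have hne : ∀ {x y : POmega F ⇑Q}, orderOf x ≠ orderOf y → ∀ φ : POmega F ⇑Q ≃* POmega F ⇑Q, φ x ≠ y := by
    intro x y h φ hφ
    rw [← hφ, H938.Sax.orderOf_mulEquiv] at h
    exact h rfl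
  refine ⟨QuotientGroup.mk z, (QuotientGroup.mk z : POmega F ⇑Q) ^ 2, (QuotientGroup.mk z : POmega F ⇑Q) ^ 4,
    fun φ hφ => key φ ?_, fun φ hφ => key φ ?_, key, hne ?_, hne ?_, hne ?_⟩
  · rw [map_pow]
    exact pow_mem hφ _
  · rw [show 4 = 2 * 2 from rfl, pow_mul, map_pow]
    exact pow_mem hφ _
  · rw [h1, hx2]; omega
  · rw [h1, hx]; omega
  · rw [hx2, hx]; omega

end

section

variable {F : Type} [Field F] [Fintype F] {k r : ℕ}

theorem eight_dvd {n : ℕ} (h : Odd n) : 8 ∣ n ^ 2 - 1 := by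
  obtain ⟨j, rfl⟩ := h
  have h1 : (2 * j + 1) ^ 2 - 1 = 4 * (j * (j + 1)) := by
    have : (2 * j + 1) ^ 2 = 4 * (j * (j + 1)) + 1 := by ring
    omega
  obtain ⟨c, hc⟩ := Nat.even_mul_succ_self j
  rw [h1, hc]
  exact ⟨c, by ring⟩

theorem odd_card (h2 : (2 : F) ≠ 0) : Odd (Nat.card F) := by
  obtain ⟨p, _⟩ := CharP.exists F
  have hpp : p.Prime := CharP.char_is_prime F p
  have := Fact.mk hpp
  obtain ⟨f, -, hf⟩ := FiniteField.card F p
  rw [Nat.card_eq_fintype_card, hf]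
  refine (hpp.odd_of_ne_two ?_).pow
  rintro rfl
  apply h2
  have := CharP.cast_eq_zero F 2
  exact_mod_cast this

theorem eight_mul_dvd (h2 : (2 : F) ≠ 0) (hk : 2 ≤ k) (hr : PP (Nat.card F) (2 * k) r) :
    2 * (4 * r) ∣ Nat.card F ^ (2 * k) - 1 := by
  have h8 : 8 ∣ Nat.card F ^ (2 * k) - 1 := by
    rw [mul_comm 2 k, pow_mul]
    exact eight_dvd ((odd_card h2).pow)
  have hodd := pp_odd hk hr
  have hrd : r ∣ Nat.card F ^ (2 * k) - 1 := by
    have h1 := H938.Sax.dvd_pow_add_one Nat.card_pos (by omega) hr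
    refine h1.trans ?_
    rw [mul_comm 2 k, pow_mul]
    refine ⟨Nat.card F ^ k - 1, ?_⟩
    rw [← Nat.sq_sub_sq, one_pow]
  have hco : Nat.Coprime 8 r := by
    rw [show (8 : ℕ) = 2 ^ 3 by norm_num]
    exact Nat.Coprime.pow_left 3 (Nat.coprime_two_left.2 hodd)
  have h3 := hco.mul_dvd_of_dvd_of_dvd h8 hrd
  rwa [show 2 * (4 * r) = 8 * r by ring]

/-- **type B, order `4r`** -/
theorem exists_B4 (h2 : (2 : F) ≠ 0) (hk : 2 ≤ k) (hr : PP (Nat.card F) (2 * k) r) :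
    ∃ z : Omega F ⇑(quadOdd (2 * k) F), orderOf (QuotientGroup.mk z : POmega F ⇑(quadOdd (2 * k) F)) = 4 * r ∧
      (z ^ 4) ^ r = 1 ∧ fixn (z ^ 4) = Nat.card F := by
  obtain ⟨K, _, _, z, b, i, hz, -, -, -, h1, h3⟩ := exists_plus (F := F) h2 (m := 2 * k) (by omega) (N := 4 * r)
    (eight_mul_dvd h2 hk hr)
  refine ⟨z, hz, ?_, h3 4 ?_⟩
  · rw [← pow_mul]
    exact h1 _ dvd_rfl
  · intro h
    have := Nat.le_of_dvd (by norm_num) h
    have := hr.lt (by omega)
    omega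

/-- an isometry of order 8 in dimension `2k` -/
theorem elt_eight (h2 : (2 : F) ≠ 0) (hk : 2 ≤ k) : ∃ ε : ℤ, Elt F k ε 8 := by
  have h := elt_tor_plus (F := F) (k := 2) (N := 8) (by norm_num) (eight_dvd (odd_card h2))
  rcases Nat.lt_or_ge 2 k with h3 | h3
  · have h4 := h.prod (elt_one (F := F) (k - 2))
    rw [show 2 + (k - 2) = k by omega, Nat.lcm_one_right] at h4
    exact ⟨_, h4⟩
  · obtain rfl : k = 2 := by omega
    exact ⟨_, h⟩

/-- **type A, order `4r`** -/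
theorem exists_A4 (h2 : (2 : F) ≠ 0) (hk : 2 ≤ k) (hr : PP (Nat.card F) (2 * k) r) :
    ∃ z : Omega F ⇑(quadOdd (2 * k) F), orderOf (QuotientGroup.mk z : POmega F ⇑(quadOdd (2 * k) F)) = 4 * r ∧
      (z ^ 4) ^ r = 1 ∧ fixn (z ^ 4) = Nat.card F ^ (2 * k) * Nat.card F := by
  have hodd := pp_odd hk hr
  have hlt := hr.lt (show 0 < 2 * k by omega)
  obtain ⟨Q₁, g, hQ₁, hg, hgo, -⟩ := exists_g hk hr
  obtain ⟨ε, -, Q₂, t, hQ₂, -, ht, hto⟩ := elt_eight (F := F) h2 hk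
  have hgr : g ^ r = 1 := by rw [← hgo]; exact pow_orderOf_eq_one g
  have hgf : ∀ v, (g ^ 8) v = v → v = 0 := by
    intro v hv
    refine no_fix (F := F) hr (by rw [Module.finrank_fin_fun]) (hr.ne0 (by omega)) (g := g ^ 8) ?_ ?_ v hv
    · rw [← pow_mul, mul_comm 8 r, pow_mul, hgr, one_pow]
    · intro h
      have h5 := orderOf_dvd_of_pow_eq_one h
      rw [hgo, show (8 : ℕ) = 2 ^ 3 by norm_num] at h5
      have h6 := hr.prime.dvd_of_dvd_pow h5
      have := Nat.le_of_dvd (by norm_num) h6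
      omega
  have hN : ∀ j : ℕ, (g.prodMap t : Module.End F ((Fin (2 * k) → F) × (Fin (2 * k) → F))) ^ (2 * j) = 1 ↔
      4 * r ∣ j := by
    intro j
    rw [prodMap_pow', prodMap_eq_one_iff, ← orderOf_dvd_iff_pow_eq_one, ← orderOf_dvd_iff_pow_eq_one, hgo, hto]
    have hco : Nat.Coprime 2 r := Nat.coprime_two_left.2 hodd
    have hco4 : Nat.Coprime 4 r := by
      rw [show (4 : ℕ) = 2 ^ 2 by norm_num]
      exact Nat.Coprime.pow_left 2 hco
    constructor
    · rintro ⟨h1, h3⟩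
      exact hco4.mul_dvd_of_dvd_of_dvd (by omega) (hco.symm.dvd_of_dvd_mul_left h1)
    · rintro ⟨c, rfl⟩
      exact ⟨⟨8 * c, by ring⟩, ⟨r * c, by ring⟩⟩
  have hV : finrank F ((Fin (2 * k) → F) × (Fin (2 * k) → F)) = 2 * (2 * k) := by
    rw [finrank_prod, finrank_fin_fun]
    ring
  obtain ⟨z, e, h1, h3⟩ := exists_gen h2 (m := 2 * k) (by omega) (sumQ_nondeg hQ₁ hQ₂) hV (g.prodMap t) (fun v => by
    rw [sumQ_apply, sumQ_apply, LinearMap.prodMap_apply, hg, ht]) hN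
  refine ⟨z, h1, ?_, ?_⟩
  · rw [← pow_mul]
    exact pow_eq_one_of_gen (h3 _) ((hN _).2 dvd_rfl)
  · rw [fixn_of_gen (h3 4)]
    congr 1
    have h5 : ∀ v : (Fin (2 * k) → F) × (Fin (2 * k) → F),
        ((g.prodMap t : Module.End F _) ^ (2 * 4)) v = v ↔ v.1 = 0 := by
      intro v
      have h7 : t ^ (2 * 4) = 1 := by
        rw [show 2 * 4 = 8 from rfl, ← hto, pow_orderOf_eq_one]
      rw [prodMap_pow', h7, LinearMap.prodMap_apply]
      constructor
      · intro h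
        exact hgf _ (congrArg Prod.fst h)
      · intro h
        refine Prod.ext ?_ rfl
        change (g ^ 8) v.1 = v.1
        rw [h, map_zero]
    rw [Nat.card_congr (Equiv.subtypeEquivRight h5)]
    have h8 : Nat.card (Fin (2 * k) → F) = Nat.card F ^ (2 * k) := by
      rw [Nat.card_fun, Nat.card_fin]
    rw [← h8]
    exact Nat.card_congr
      { toFun := fun v => v.1.2
        invFun := fun b => ⟨(0, b), rfl⟩
        left_inv := fun v => Subtype.ext (Prod.ext v.2.symm rfl)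
        right_inv := fun _ => rfl }

/-- **the stabiliser of a minus point** -/
theorem special_three (h2 : (2 : F) ≠ 0) (hk : 2 ≤ k) (hr : PP (Nat.card F) (2 * k) r)
    {M : Subgroup (POmega F ⇑(quadOdd (2 * k) F))} {u : Unit ⊕ (Fin (2 * k) ⊕ Fin (2 * k)) → F}
    (hu : quadOdd (2 * k) F u ≠ 0)
    (hM : pre (⇑(quadOdd (2 * k) F)) M ≤ subspaceStabilizer (Submodule.span F {u}))
    (hP : ¬ IsPlus (res (quadOdd (2 * k) F) (perp (quadOdd (2 * k) F) (Submodule.span F {u})))) :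
    Three (POmega F ⇑(quadOdd (2 * k) F)) M := by
  have hS := semiAut_odd (F := F) (m := 2 * k) (by omega) h2
  obtain ⟨z, h1, h3, h4⟩ := exists_B4 h2 hk hr
  have hlt := hr.lt (by omega)
  refine three_of_type hS hr.prime (by omega) h1 h3 h4 fun x hx _ => ?_
  refine not_ty_of_point h2 (H955.nondeg_iff.2 (quadOdd_nondegenerate h2)) (H884.El.card_odd (2 * k)) hr.prime (by omega)
    (hr.not_dvd (by omega)) ?_ hu hM hP x hx
  rw [← hr.ord]
  exact pow_orderOf_eq_one _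

/-- **subgroups with cyclic Sylow `r`-subgroups** -/
theorem cyc_three (h2 : (2 : F) ≠ 0) (hk : 2 ≤ k) (hr : PP (Nat.card F) (2 * k) r)
    {M : Subgroup (POmega F ⇑(quadOdd (2 * k) F))} (hc : H264.FKS.Cyc r M) :
    Three (POmega F ⇑(quadOdd (2 * k) F)) M := by
  have hS := semiAut_odd (F := F) (m := 2 * k) (by omega) h2
  have hD := H884.El.data_odd (F := F) (m := 2 * k) (by omega) h2
  obtain ⟨zA, a1, a2, a3⟩ := exists_A4 h2 hk hr
  obtain ⟨zB, b1, b2, b3⟩ := exists_B4 h2 hk hr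
  have hlt := hr.lt (by omega)
  by_cases hA : ∃ x ∈ M, orderOf x = r ∧ Ty r x (Nat.card F ^ (2 * k) * Nat.card F)
  · obtain ⟨x, hx, hxr, hxA⟩ := hA
    refine three_of_type hS hr.prime (by omega) b1 b2 b3 fun y hy hyr hyB => ?_
    have h5 := cyc_one_type hS hD hr.prime (by omega) hc hx hy hxr hyr hxA hyB
    have h6 : 1 < Nat.card F := Finite.one_lt_card
    have h7 : 1 < Nat.card F ^ (2 * k) := Nat.one_lt_pow (by omega) h6
    nlinarith
  · exact three_of_type hS hr.prime (by omega) a1 a2 a3 fun y hy hyr hyA => hA ⟨y, hy, hyr, hyA⟩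

end

end Cfsg.Agent.H833.RS
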