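import Cfsg.Agent.H265.Der.Row
import Cfsg.Agent.H833.RS.Ntc
import Cfsg.Agent.H833.RS.Type

/-!
# The row `Ω_{2m+1}(q)` of S3502, `(m, q) ≠ (3, 3)` (helper833)

The assembly follows helper265's `H265/Der/Row.lean`, with three classes instead of two.
-/

set_option autoImplicit false
set_option linter.unusedSectionVars false

namespace Cfsg.Agent.H833.RS

open Cfsg Cfsg.Geo Cfsg.Agent.H439.Der Cfsg.Agent.LieClassical.OmegaReindex
open Cfsg.Agent.OrdDiv Cfsg.Agent.H436 Cfsg.Agent.H264.FKS Cfsg.Agent.H265.Der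
open Cfsg.Agent.H884.El (PP)
open Cfsg.Agent.H938.Sax (PGap)
open Cfsg.Agent.H278.El.SporNum (IsCl exc)
open Cfsg.Agent.H278.El.AltNum (dimOf surv)
open scoped MatrixGroups

section

variable {F : Type} [Field F] [Fintype F] {m : ℕ}

/-- the geometric part -/
theorem geo_row3 (hm : 3 ≤ m) (hodd : Odd (Fintype.card F)) (M : Subgroup (POmega F (quadFormOdd m F))) :
    PGap _ M ∨ InOrthogonalResidualClass (preO (quadFormOdd m F) M) ∨ Three (POmega F (quadFormOdd m F)) M := by
  have h2 := H390.two_ne_zero_of_odd hodd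
  have h : ∀ M : Subgroup (POmega F (⇑(quadOdd m F))),
      PGap _ M ∨ InOrthogonalResidualClass (preO (⇑(quadOdd m F)) M) ∨ Three (POmega F (⇑(quadOdd m F))) M := by
    intro M
    rcases H884.El.odd_miss h2 hm (H884.El.card_odd m) (H955.nondeg_iff.2 (quadOdd_nondegenerate h2))
      (H884.El.data_odd hm h2) M with h | h | ⟨⟨k, hk⟩, v, hv, hMv, hP⟩
    · exact Or.inl h
    · exact Or.inr (Or.inl h)
    · obtain rfl : m = 2 * k := by omega
      obtain ⟨r, hr⟩ := exists_prim (q := Nat.card F) (e := 2 * k) Finite.one_lt_card (by omega) (by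
        rintro ⟨h3, -⟩
        rw [Nat.card_eq_fintype_card] at h3
        rw [h3] at hodd
        exact absurd hodd (by decide))
      exact Or.inr (Or.inr (special_three h2 (by omega) (prim_pp Nat.card_pos hr) hv hMv hP))
  rw [coe_quadOdd] at h
  exact h M

/-- the subgroups with cyclic Sylow `r`-subgroups -/
theorem cyc_row3 (hm : 3 ≤ m) (hodd : Odd (Fintype.card F)) (he : m % 2 = 0) {r : ℕ} (hr : Prim (Fintype.card F) m r)
    {M : Subgroup (POmega F (quadFormOdd m F))} (hc : Cyc r M) : Three (POmega F (quadFormOdd m F)) M := by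
  have h2 := H390.two_ne_zero_of_odd hodd
  obtain ⟨k, rfl⟩ : ∃ k, m = 2 * k := ⟨m / 2, by omega⟩
  rw [← Nat.card_eq_fintype_card] at hr
  have h : ∀ M : Subgroup (POmega F (⇑(quadOdd (2 * k) F))), Cyc r M → Three (POmega F (⇑(quadOdd (2 * k) F))) M :=
    fun M hM => cyc_three h2 (by omega) (prim_pp Nat.card_pos hr) hM
  rw [coe_quadOdd] at h
  exact h M hc

end

/-- **`Ω_{2m+1}(q)`, `q` odd, `m ≥ 3`, `(m, q) ≠ (3, 3)`.** -/
theorem rowS_oodd_gen (tab : OrderTable.{0}) (hK : ∀ (X : Type) [Group X] [Finite X] [IsSimpleGroup X],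
    Cfsg.IsKnownSimple' X) {F : Type} [Field F] [Fintype F] {m : ℕ} (hm : 3 ≤ m) (hodd : Odd (Fintype.card F))
    (h33 : ¬ (m = 3 ∧ Fintype.card F = 3)) : RowS (POmega F (quadFormOdd m F)) := by
  have hfin : Finite (POmega F (quadFormOdd m F)) := Quotient.finite _
  refine RowS.of_three fun R hR => ?_
  have hT : IsNamed (.oodd m (Fintype.card F)) (POmega F (quadFormOdd m F)) := named_oodd (F := F) hm hodd
  have hntc := ntc_odd (F := F) hm hodd h33
  have hmiss : Miss R → Three (POmega F (quadFormOdd m F)) R := fun h => Three.of_pgap hntc h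
  obtain ⟨p, hchF⟩ := CharP.exists F
  have hp : p.Prime := CharP.char_is_prime F p
  obtain ⟨f, -, hf⟩ := FiniteField.card F p
  rcases geo_row3 hm hodd R with h | ⟨P, hP, -⟩ | h
  · exact hmiss h
  · obtain ⟨S, hSn, hSs, hna, hC, ⟨e⟩⟩ := exists_res_odd hm hodd (M := R) hP
    obtain ⟨g, hg⟩ := named_of tab hK hna
    have hcard : Fintype.card (Unit ⊕ (Fin m ⊕ Fin m)) = dimOf (.oodd m (Fintype.card F)) := by
      rw [Fintype.card_sum, Fintype.card_sum, Fintype.card_fin, Fintype.card_unit]
      change 1 + (m + m) = 2 * m + 1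
      omega
    refine H278.El.Asm.res_kill (p := p) hT trivial ?_ ?_ S hC hg e hcard hmiss ?_ ?_
    · simp only [surv, List.mem_cons, reduceCtorEq, or_false, List.not_mem_nil, not_false_eq_true]
    · intro g' hg'
      simp only [exc, List.mem_cons, Prod.mk.injEq, reduceCtorEq, and_false, or_false, List.not_mem_nil] at hg'
    · intro hch
      by_cases hm0 : Miss R
      · exact hmiss hm0
      have hfull : Full (POmega F (quadFormOdd m F)) R := by
        intro r hr hd
        by_contra h1
        exact hm0 ⟨r, hr, hd, h1⟩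
      rw [hf] at hT
      obtain ⟨he, rfl⟩ := full_oodd hT hp f.pos hm hR.1 hfull S hna hC hg hch
      obtain ⟨r, hr, hlt⟩ := exists_big hp f.pos hm (by
        rintro ⟨rfl, -⟩
        rw [hf, Nat.odd_pow_iff f.ne_zero] at hodd
        exact absurd hodd (by decide))
      exact cyc_row3 hm hodd he (by rw [hf]; exact hr) (cyc_four S hna hC (Or.inl rfl) hg hp f.pos hr hlt hm he)
    · intro s hs hsp hch
      rcases H884.Cx.cross_row hp hT trivial ⟨f, hf⟩ hcard S hna hC hP.perfect e hs hsp hg hch with h | h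
      · exact hmiss h
      · simp only [H884.Cx.excP, List.mem_cons, Prod.mk.injEq, Grp.oodd.injEq, reduceCtorEq, and_false, or_false,
          false_or, List.not_mem_nil] at h
        exact absurd h.2 h33
  · exact h

end Cfsg.Agent.H833.RS
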