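import Cfsg.Agent.H833.RS.O73Res
import Cfsg.Agent.H833.RS.Row
import Cfsg.Agent.H503.El.O73

/-!
# The row `Ω_{2m+1}(q)` of S3502 (helper833)

`rowS_oodd` : the strong row for all `m ≥ 3`, `q` odd; `rowS_oodd_gen` (`Row.lean`) and `Ω₇(3)` (here).
-/

set_option autoImplicit false
set_option linter.unusedSectionVars false

namespace Cfsg.Agent.H833.RS.O73

open Cfsg Cfsg.Geo Cfsg.Agent.H439.Der Cfsg.Agent.OrdDiv Cfsg.Agent.LieClassical.OmegaReindex Cfsg.Agent.H377
open Cfsg.Agent.H94.PG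
open scoped MatrixGroups

section

variable {F : Type} [Field F] [Fintype F]

theorem exists_15 (hF : Fintype.card F = 3) : ∃ x : POmega F (quadFormOdd 3 F), orderOf x = 15 := by
  have h2 := two_ne hF
  have := Fact.mk Nat.prime_three
  have hch : CharP F 3 := by
    obtain ⟨p, hp⟩ := CharP.exists F
    have h5 : p ∣ 3 := (CharP.cast_eq_zero_iff F p 3).1 (by exact_mod_cast three_eq hF)
    have h6 : p.Prime := CharP.char_is_prime F p
    have h7 := (Nat.prime_dvd_prime_iff_eq h6 Nat.prime_three).1 h5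
    rw [← h7]
    exact hp
  have h4 : ∃ ε : ℤ, Elt F 2 ε 5 := by
    rcases H377.OOdd.elt_of_dvd (F := F) (i := 2) (by norm_num) (u := 5) (by norm_num)
      (by rw [Nat.card_eq_fintype_card, hF]; norm_num) with h | h
    · exact ⟨_, h⟩
    · exact ⟨_, h⟩
  obtain ⟨ε, h4⟩ := h4
  obtain ⟨g, hg⟩ := exists_mul_p (F := F) 3 h2 (m := 2) (by norm_num) (v := 5) (by decide) (by norm_num) h4
  exact ⟨g, by rw [hg]⟩

/-- the primes 2, 3, 5 -/
theorem not_scc (hF : Fintype.card F = 3) {v : ℕ} (hv : v = 2 ∨ v = 3 ∨ v = 5) :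
    ¬ SCC (POmega F (quadFormOdd 3 F)) v := by
  have h2 := two_ne hF
  have ho : Odd (Nat.card F) := by rw [Nat.card_eq_fintype_card, hF]; decide
  have hfin : Finite (POmega F (quadFormOdd 3 F)) := Quotient.finite _
  have hprod : ∀ {a b : ℕ}, Adj (POmega F (quadFormOdd 3 F)) a b →
      ∃ x : POmega F (quadFormOdd 3 F), orderOf x = a * b := by
    rintro a b ⟨ha, hb, hab, x, y, hx, hy, hxy⟩
    refine ⟨x * y, ?_⟩
    rw [hxy.orderOf_mul_eq_mul_orderOf_of_coprime, hx, hy]
    rw [hx, hy]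
    exact (Nat.coprime_primes ha hb).2 hab
  obtain ⟨a, ha⟩ := hprod (H377.OOdd.adj_two_of_char (F := F) ho (m := 3) le_rfl Nat.prime_three (by norm_num)
    (by rw [Nat.card_eq_fintype_card, hF]))
  obtain ⟨b, hb⟩ := exists_15 hF
  obtain ⟨c, hc⟩ := hprod (H377.OOdd.adj_two_of_dvd (F := F) ho (m := 3) (i := 2) le_rfl (by norm_num) (by norm_num)
    (u := 5) (by norm_num) (by norm_num) (by rw [Nat.card_eq_fintype_card, hF]; norm_num))
  obtain ⟨d, hd⟩ := H372.exists_eight_omegaOdd (F := F) h2 (m := 3) le_rfl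
  have hN := card_T hF
  rw [coe_quadOdd] at hN
  rcases hv with rfl | rfl | rfl
  · refine not_SCC_of_orders (x := a) (y := c) (z := d) ?_ ?_ ?_ ?_ ?_ ?_ <;> (try rw [ha]) <;> (try rw [hc]) <;>
      (try rw [hd]) <;> norm_num
  · have := Fact.mk Nat.prime_three
    obtain ⟨w, hw⟩ := exists_prime_orderOf_dvd_card' (G := POmega F (quadFormOdd 3 F)) 3 (by rw [hN]; norm_num)
    refine not_SCC_of_orders (x := a) (y := b) (z := w) ?_ ?_ ?_ ?_ ?_ ?_ <;> (try rw [ha]) <;> (try rw [hb]) <;>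
      (try rw [hw]) <;> norm_num
  · have := Fact.mk (show Nat.Prime 5 by norm_num)
    obtain ⟨w, hw⟩ := exists_prime_orderOf_dvd_card' (G := POmega F (quadFormOdd 3 F)) 5 (by rw [hN]; norm_num)
    refine not_SCC_of_orders (x := c) (y := b) (z := w) ?_ ?_ ?_ ?_ ?_ ?_ <;> (try rw [hc]) <;> (try rw [hb]) <;>
      (try rw [hw]) <;> norm_num

/-- **The maximal subgroups of `Ω₇(3)`.** -/
theorem three_73 (tab : OrderTable.{0}) (hK : ∀ (X : Type) [Group X] [Finite X] [IsSimpleGroup X],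
    Cfsg.IsKnownSimple' X) (hF : Fintype.card F = 3) {M : Subgroup (POmega F ⇑(quadOdd 3 F))} (hM : IsCoatom M) :
    Three (POmega F ⇑(quadOdd 3 F)) M := by
  have h2 := two_ne hF
  have hN := card_T hF
  have hfin : Finite (POmega F ⇑(quadOdd 3 F)) := Nat.finite_of_card_ne_zero (by rw [hN]; norm_num)
  have hscc : ∀ {v : ℕ}, v = 2 ∨ v = 3 ∨ v = 5 → ¬ SCC (POmega F ⇑(quadOdd 3 F)) v := fun {v} hv => by
    rw [coe_quadOdd]
    exact not_scc hF hv
  have hnsc : NSC (POmega F ⇑(quadOdd 3 F)) := by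
    rw [coe_quadOdd]
    exact H265.Der.nsc_odd (F := F) le_rfl (by rw [hF]; decide)
  have hgap : H938.Sax.PGap (POmega F ⇑(quadOdd 3 F)) M := by
    revert hM hfin hN hscc hnsc
    revert M
    rw [coe_quadOdd]
    intro M hM _ _ _ _
    exact H503.El.pgap_o73 tab hK F hF M hM.1
  have key : ∀ {v : ℕ}, v.Prime → v = 2 ∨ v = 3 ∨ v = 5 → ¬ v ∣ Nat.card M →
      Three (POmega F ⇑(quadOdd 3 F)) M := by
    intro v hvp hv h
    have := Fact.mk hvp
    obtain ⟨x, hx⟩ := exists_prime_orderOf_dvd_card' (G := POmega F ⇑(quadOdd 3 F)) v (by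
      rw [hN]
      rcases hv with rfl | rfl | rfl <;> norm_num)
    exact Three.of_not_dvd h (hscc hv) ⟨x, by rw [hx]⟩
  by_cases h5 : 5 ∣ Nat.card M
  swap
  · exact key (by norm_num) (by simp) h5
  have h713 : ¬ (7 ∣ Nat.card M ∧ 13 ∣ Nat.card M) ∨ Three (POmega F ⇑(quadOdd 3 F)) M := by
    obtain ⟨v, hv, h1, h3⟩ := hgap
    rw [hN] at h1
    have h4 : v ∈ (4585351680 : ℕ).primeFactors := Nat.mem_primeFactors.2 ⟨hv, h1, by norm_num⟩
    have h6 : (4585351680 : ℕ).primeFactors = {2, 3, 5, 7, 13} := by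
      rw [show 4585351680 = 2 ^ 9 * 3 ^ 9 * 5 * 7 * 13 by norm_num]
      rw [Nat.primeFactors_mul (by norm_num) (by norm_num), Nat.primeFactors_mul (by norm_num) (by norm_num),
        Nat.primeFactors_mul (by norm_num) (by norm_num), Nat.primeFactors_mul (by norm_num) (by norm_num),
        Nat.primeFactors_prime_pow (by norm_num) Nat.prime_two,
        Nat.primeFactors_prime_pow (by norm_num) Nat.prime_three, Nat.Prime.primeFactors (by norm_num : Nat.Prime 5),
        Nat.Prime.primeFactors (by norm_num : Nat.Prime 7), Nat.Prime.primeFactors (by norm_num : Nat.Prime 13)]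
      decide
    rw [h6] at h4
    simp only [Finset.mem_insert, Finset.mem_singleton] at h4
    rcases h4 with rfl | rfl | rfl | rfl | rfl
    · exact Or.inr (key hv (by simp) h3)
    · exact Or.inr (key hv (by simp) h3)
    · exact Or.inr (key hv (by simp) h3)
    · exact Or.inl fun h => h3 h.1
    · exact Or.inl fun h => h3 h.2
  rcases h713 with h713 | h
  swap
  · exact h
  have hs7 := hnsc 7 (by norm_num) (by rw [hN]; norm_num)
  have hs13 := hnsc 13 (by norm_num) (by rw [hN]; norm_num)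
  obtain ⟨x15, hx15⟩ : ∃ x : POmega F ⇑(quadOdd 3 F), orderOf x = 15 := by
    rw [coe_quadOdd]
    exact exists_15 hF
  obtain ⟨x18, hx18⟩ : ∃ x : POmega F ⇑(quadOdd 3 F), orderOf x = 18 := by
    rw [coe_quadOdd]
    exact H265.Der.O73.exists_eighteen hF
  obtain ⟨K, _, _, z14, -, -, hx14, -⟩ := exists_minus (F := F) h2 (m := 3) le_rfl (N := 14)
    (by rw [Nat.card_eq_fintype_card, hF]; norm_num)
  have hres : InOrthogonalResidualClass (H884.El.pre (⇑(quadOdd 3 F)) M) →
      ∃ S : Subgroup M, S.Normal ∧ IsSimpleGroup S ∧ (¬ IsMulCommutative S) ∧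
        Subgroup.centralizer (S : Set M) = ⊥ := by
    rintro ⟨P, hP, -⟩
    obtain ⟨S, h1, h3, h4, h6, -⟩ := H264.FKS.exists_res_omega (quadOdd_nondegenerate h2)
      (by rw [H884.El.card_odd]; norm_num) (quadOdd_isotropic (by norm_num)) hP
    exact ⟨S, h1, h3, h4, h6⟩
  by_cases h7 : 7 ∣ Nat.card M
  · have h13 : ¬ 13 ∣ Nat.card M := fun h => h713 ⟨h7, h⟩
    rcases geo_cases hF hM (Or.inl h7) with h | h | h
    · exact Three.of_not_SC_order h13 hs13 hx15 h (by norm_num)
    · exact Three.of_not_SC_order h13 hs13 hx18 h (by norm_num)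
    · obtain ⟨S, _, _, hna, hC⟩ := hres h
      rcases res_c tab hK hF hna hC h5 h7 h13 with h | h | h
      · exact Three.of_not_SC_order h13 hs13 hx15 (fun x hx => by
          rw [← Subgroup.orderOf_mk x hx]; exact h _) (by norm_num)
      · exact Three.of_not_SC_order h13 hs13 hx18 (fun x hx => by
          rw [← Subgroup.orderOf_mk x hx]; exact h _) (by norm_num)
      · exact Three.of_not_SC_order h13 hs13 hx14 (fun x hx => by
          rw [← Subgroup.orderOf_mk x hx]; exact h _) (by norm_num)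
  · by_cases h13 : 13 ∣ Nat.card M
    · rcases geo_cases hF hM (Or.inr ⟨h5, h13⟩) with h | h | h
      · exact Three.of_not_SC_order h7 hs7 hx15 h (by norm_num)
      · exact Three.of_not_SC_order h7 hs7 hx18 h (by norm_num)
      · obtain ⟨S, _, _, hna, hC⟩ := hres h
        exact Three.of_not_SC_order h7 hs7 hx15 (fun x hx => by
          rw [← Subgroup.orderOf_mk x hx]; exact res_d tab hK hF hna hC h5 h13 h7 _) (by norm_num)
    · exact Three.of_two_primes (v := 13) (w := 7) (by norm_num) (by norm_num) (by norm_num)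
        (by rw [hN]; norm_num) h13 h7 hs13

theorem rowS_73 (tab : OrderTable.{0}) (hK : ∀ (X : Type) [Group X] [Finite X] [IsSimpleGroup X],
    Cfsg.IsKnownSimple' X) (hF : Fintype.card F = 3) : RowS (POmega F (quadFormOdd 3 F)) := by
  rw [← coe_quadOdd]
  have hfin : Finite (POmega F ⇑(quadOdd 3 F)) := Quotient.finite _
  exact RowS.of_three fun M hM => three_73 tab hK hF hM

end

end Cfsg.Agent.H833.RS.O73

namespace Cfsg.Agent.H833.RS

open Cfsg Cfsg.Agent.H439.Der Cfsg.Agent.OrdDiv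

/-- **`Ω_{2m+1}(q)`, `q` odd, `m ≥ 3`** (S3502-OODD). -/
theorem rowS_oodd (tab : OrderTable.{0}) (hK : ∀ (X : Type) [Group X] [Finite X] [IsSimpleGroup X],
    Cfsg.IsKnownSimple' X) {F : Type} [Field F] [Fintype F] {m : ℕ} (hm : 3 ≤ m) (hodd : Odd (Fintype.card F)) :
    RowS (POmega F (quadFormOdd m F)) := by
  by_cases h33 : m = 3 ∧ Fintype.card F = 3
  · obtain ⟨rfl, hF⟩ := h33
    exact O73.rowS_73 tab hK hF
  · exact rowS_oodd_gen tab hK hm hodd h33

end Cfsg.Agent.H833.RS
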