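import Cfsg.Agent.H265.Der.Geo
import Cfsg.Agent.H439.Der.Three

/-!
# Elements of `Ω_{2m+1}(q)` with prescribed action (helper833, for S3502)

* `exists_gen` : elements from isometries of an arbitrary nondegenerate space of dimension `2m`
* `exists_plus`, `exists_minus` : the cyclic tori of order `(q^m - 1)/2`, `(q^m + 1)/2`
* `three_of_type`, `special_three`, `cyc_three` : `Three` for subgroups missing a type of elements of order `r`
-/

set_option autoImplicit false
set_option linter.unusedSectionVars false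

namespace Cfsg.Agent.H833.RS

open Cfsg Cfsg.Geo Cfsg.Agent.H439.Der Cfsg.Agent.LieClassical.OmegaReindex Cfsg.Agent.H377
open Cfsg.Agent.LieClassical.OrthCore QuadraticMap Module
open Cfsg.Agent.H884.El (PP pre)
open Cfsg.Agent.H265.Der
open scoped MatrixGroups Matrix

/-- the index set -/
abbrev Ix (m : ℕ) := Unit ⊕ (Fin m ⊕ Fin m)

section gen

variable {F : Type} [Field F] [Fintype F]

/-- elements of `Ω_{2m+1}(q)` from isometries in dimension `2m` -/
theorem exists_gen (h2 : (2 : F) ≠ 0) {m : ℕ} (hm : 3 ≤ m) {V : Type*} [AddCommGroup V] [Module F V] [Finite V]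
    {Q₁ : QuadraticForm F V} (hQ₁ : Nondeg Q₁) (hV : finrank F V = 2 * m) (S : Module.End F V)
    (hS : ∀ v, Q₁ (S v) = Q₁ v) {N : ℕ} (hN : ∀ j : ℕ, S ^ (2 * j) = 1 ↔ N ∣ j) :
    ∃ (z : Omega F ⇑(quadOdd m F)) (e : (Ix m → F) ≃ₗ[F] V × F),
      orderOf (QuotientGroup.mk z : POmega F ⇑(quadOdd m F)) = N ∧
      ∀ (j : ℕ) (x : Ix m → F), e (ac (z ^ j) *ᵥ x) = ((S ^ (2 * j)) (e x).1, (e x).2) := by
  have : FiniteDimensional F V := Module.Finite.of_finite
  let Q₀ : QuadraticForm F F := QuadraticMap.sq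
  have hQ₀ : Nondeg Q₀ := by
    intro x hx
    have h3 := hx 1
    simp only [polar, Q₀, QuadraticMap.sq_apply] at h3
    have h4 : 2 * x = 0 := by linear_combination h3
    exact (mul_eq_zero.1 h4).resolve_left h2
  have hR : Nondeg (sumQ Q₁ Q₀) := sumQ_nondeg hQ₁ hQ₀
  have hfr : finrank F (V × F) = 2 * m + 1 := by
    rw [finrank_prod, finrank_self, hV]
  obtain ⟨c, e, hc, he⟩ := exists_similar_odd hfr (sumQ Q₁ Q₀) hR
  have hpow : ∀ j : ℕ, ((S.prodMap (1 : Module.End F F) : Module.End F _) ^ j) =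
      ((S ^ j).prodMap (1 : Module.End F F) : Module.End F _) := by
    intro j
    rw [prodMap_pow', one_pow]
  have hneg : ∀ j : ℕ, ((S.prodMap (1 : Module.End F F) : Module.End F _) ^ j) ≠ -1 := by
    intro j hj
    rw [hpow, prodMap_eq_neg_one_iff] at hj
    have h3 := LinearMap.congr_fun hj.2 (1 : F)
    change (1 : F) = -1 at h3
    apply h2
    linear_combination h3
  obtain ⟨z, hz1, hz2⟩ := exists_act (quadOdd m F) (H955.nondeg_iff.2 (quadOdd_nondegenerate h2))
    (by rw [H884.El.card_odd]; omega) (⇑(sumQ Q₁ Q₀)) e c hc (by rw [quadOdd_eq']; exact he)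
    (S.prodMap (1 : Module.End F F)) (by
      intro v
      change Q₁ (S v.1) + Q₀ v.2 = Q₁ v.1 + Q₀ v.2
      rw [hS]) N (by
      intro j
      rw [← hN, or_iff_left (hneg _), hpow, prodMap_eq_one_iff]
      exact and_iff_left rfl)
  refine ⟨z, e, hz1, fun j x => ?_⟩
  rw [hz2, LinearEquiv.apply_symm_apply, hpow, LinearMap.prodMap_apply]
  rfl

/-- powers equal to one -/
theorem pow_eq_one_of_gen {m : ℕ} {V : Type*} [AddCommGroup V] [Module F V] {S : Module.End F V}
    {z : Omega F ⇑(quadOdd m F)} {e : (Ix m → F) ≃ₗ[F] V × F} {j : ℕ}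
    (hz : ∀ x : Ix m → F, e (ac (z ^ j) *ᵥ x) = ((S ^ (2 * j)) (e x).1, (e x).2)) (h : S ^ (2 * j) = 1) :
    z ^ j = 1 := by
  apply eq_one_of_act
  intro x
  apply e.injective
  rw [hz, h]
  rfl

/-- the number of fixed vectors -/
theorem fixn_of_gen {m : ℕ} {V : Type*} [AddCommGroup V] [Module F V] {S : Module.End F V}
    {z : Omega F ⇑(quadOdd m F)} {e : (Ix m → F) ≃ₗ[F] V × F} {j : ℕ}
    (hz : ∀ x : Ix m → F, e (ac (z ^ j) *ᵥ x) = ((S ^ (2 * j)) (e x).1, (e x).2)) :
    fixn (z ^ j) = Nat.card {v : V // (S ^ (2 * j)) v = v} * Nat.card F := by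
  rw [← Nat.card_prod]
  have hz3 : ∀ x : Ix m → F, ac (z ^ j) *ᵥ x = x ↔ (S ^ (2 * j)) (e x).1 = (e x).1 := by
    intro x
    rw [← e.injective.eq_iff, hz]
    constructor
    · intro h
      exact congrArg Prod.fst h
    · intro h
      exact Prod.ext h rfl
  refine Nat.card_congr ((e.toEquiv.subtypeEquiv (q := fun v => (S ^ (2 * j)) v.1 = v.1) fun x => hz3 x).trans ?_)
  exact
    { toFun := fun v => (⟨v.1.1, v.2⟩, v.1.2)
      invFun := fun v => ⟨(v.1.1, v.2), v.1.2⟩
      left_inv := fun _ => rfl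
      right_inv := fun _ => rfl }

/-- only the zero vector fixed -/
theorem fixn_of_gen' {m : ℕ} {V : Type*} [AddCommGroup V] [Module F V] {S : Module.End F V}
    {z : Omega F ⇑(quadOdd m F)} {e : (Ix m → F) ≃ₗ[F] V × F} {j : ℕ}
    (hz : ∀ x : Ix m → F, e (ac (z ^ j) *ᵥ x) = ((S ^ (2 * j)) (e x).1, (e x).2))
    (h : ∀ v, (S ^ (2 * j)) v = v → v = 0) : fixn (z ^ j) = Nat.card F := by
  rw [fixn_of_gen hz]
  have : Unique {v : V // (S ^ (2 * j)) v = v} := ⟨⟨⟨0, map_zero _⟩⟩, fun v => Subtype.ext (h v.1 v.2)⟩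
  rw [Nat.card_unique, one_mul]

end gen

section tor

variable {F : Type} [Field F] [Fintype F]

/-- nondegeneracy of trace forms -/
theorem nondeg_trace {K : Type*} [Field K] [Finite K] [Algebra F K] {V : Type*} [AddCommGroup V] [Module F V]
    {Q : QuadraticForm F V} (B : V → V → K) (hB : ∀ x y, polar Q x y = Algebra.trace F K (B x y))
    (h : ∀ x, x ≠ 0 → ∃ f : K → V, ∀ c, B x (f c) = c) : Nondeg Q := by
  intro x hx
  by_contra hne
  obtain ⟨f, hf⟩ := h x hne
  obtain ⟨t, ht⟩ := Algebra.trace_surjective F K 1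
  have h5 := hx (f t)
  rw [hB, hf, ht] at h5
  exact one_ne_zero h5

/-- **the torus of order `(q^m - 1)/2`** -/
theorem exists_plus (h2 : (2 : F) ≠ 0) {m : ℕ} (hm : 3 ≤ m) {N : ℕ} (hN : 2 * N ∣ Nat.card F ^ m - 1) :
    ∃ (K : Type) (_ : Field K) (_ : Algebra F K) (z : Omega F ⇑(quadOdd m F)) (b : K) (i : K →ₗ[F] (Ix m → F)),
      orderOf (QuotientGroup.mk z : POmega F ⇑(quadOdd m F)) = N ∧ orderOf b = N ∧ Function.Injective i ∧
      (∀ x, ac z *ᵥ i x = i (b * x)) ∧ (∀ j, N ∣ j → z ^ j = 1) ∧ ∀ j, ¬ N ∣ j → fixn (z ^ j) = Nat.card F := by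
  obtain ⟨p, _⟩ := CharP.exists F
  have : Fact p.Prime := ⟨CharP.char_is_prime F p⟩
  have : NeZero m := ⟨by omega⟩
  let K := FiniteField.Extension F p m
  have hKc : Nat.card K = Nat.card F ^ m := FiniteField.natCard_extension F p m
  have hKf : finrank F K = m := FiniteField.finrank_extension F p m
  have hN0 : 0 < N := by
    rcases Nat.eq_zero_or_pos N with rfl | h
    · rw [mul_zero, zero_dvd_iff] at hN
      have : 1 < Nat.card F ^ m := Nat.one_lt_pow (by omega) Finite.one_lt_card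
      omega
    · exact h
  obtain ⟨g, hg⟩ := IsCyclic.exists_ofOrder_eq_natCard (α := Kˣ)
  rw [Nat.card_units, hKc] at hg
  obtain ⟨M', hM'⟩ := hN
  let a : Kˣ := g ^ M'
  have hM'0 : M' ≠ 0 := by
    rintro rfl
    have : 1 < Nat.card F ^ m := Nat.one_lt_pow (by omega) Finite.one_lt_card
    omega
  have ha : orderOf a = 2 * N := by
    change orderOf (g ^ M') = 2 * N
    rw [orderOf_pow_of_dvd hM'0 (by rw [hg, hM']; exact Dvd.intro_left _ rfl), hg, hM']
    exact Nat.mul_div_cancel _ (by omega)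
  have hdiv : ∀ j, a ^ (2 * j) = 1 ↔ N ∣ j := by
    intro j
    rw [← orderOf_dvd_iff_pow_eq_one, ha]
    exact Nat.mul_dvd_mul_iff_left (by norm_num)
  let Q₁ : QuadraticForm F (K × K) := (Algebra.trace F K).compQuadraticMap' (hypQ K)
  have hQ₁' : ∀ v, Q₁ v = Algebra.trace F K (v.1 * v.2) := fun v => rfl
  have hnd : Nondeg Q₁ := by
    refine nondeg_trace (F := F) (K := K) (fun x y => x.1 * y.2 + y.1 * x.2) (fun x y => ?_) fun x hx => ?_
    · rw [polar, hQ₁', hQ₁', hQ₁', ← map_sub, ← map_sub]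
      congr 1
      rw [Prod.fst_add, Prod.snd_add]
      ring
    · by_cases h1 : x.1 = 0
      · have h3 : x.2 ≠ 0 := fun h => hx (Prod.ext h1 h)
        exact ⟨fun c => (c / x.2, 0), fun c => by
          change x.1 * 0 + c / x.2 * x.2 = c
          rw [div_mul_cancel₀ _ h3, mul_zero, zero_add]⟩
      · exact ⟨fun c => (0, c / x.1), fun c => by
          change x.1 * (c / x.1) + 0 * x.2 = c
          rw [mul_div_cancel₀ _ h1, zero_mul, add_zero]⟩
  let S : Module.End F (K × K) := (LinearMap.mulLeft F (a : K)).prodMap (LinearMap.mulLeft F ((a⁻¹ : Kˣ) : K))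
  have hSj : ∀ (j : ℕ) (v : K × K), (S ^ j) v = (((a ^ j : Kˣ) : K) * v.1, (((a ^ j)⁻¹ : Kˣ) : K) * v.2) := by
    intro j
    induction j with
    | zero => intro v; simp
    | succ k ih =>
      intro v
      rw [pow_succ, Module.End.mul_apply, ih]
      change (((a ^ k : Kˣ) : K) * ((a : K) * v.1), (((a ^ k)⁻¹ : Kˣ) : K) * (((a⁻¹ : Kˣ) : K) * v.2)) = _
      rw [pow_succ, mul_inv_rev, Units.val_mul, Units.val_mul, mul_assoc]
      congr 1
      rw [mul_comm ((a⁻¹ : Kˣ) : K) (((a ^ k)⁻¹ : Kˣ) : K), mul_assoc]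
  have hSQ : ∀ v, Q₁ (S v) = Q₁ v := by
    intro v
    have h := hSj 1 v
    rw [pow_one] at h
    rw [h, hQ₁', hQ₁', pow_one]
    congr 1
    have h1 : (a : K) * ((a⁻¹ : Kˣ) : K) = 1 := Units.mul_inv a
    linear_combination v.1 * v.2 * h1
  have hS1 : ∀ j, S ^ (2 * j) = 1 ↔ N ∣ j := by
    intro j
    rw [← hdiv]
    constructor
    · intro h
      have h1 := hSj (2 * j) (1, 0)
      rw [h] at h1
      have h2 := congrArg Prod.fst h1
      simp only [mul_one] at h2
      exact Units.ext h2.symm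
    · intro h
      refine LinearMap.ext fun v => ?_
      rw [hSj, h]
      simp
  obtain ⟨z, e, hz, hze⟩ := exists_gen h2 hm hnd (by rw [finrank_prod, hKf]; ring) S hSQ hS1
  let i : K →ₗ[F] (Ix m → F) := (e.symm : _ →ₗ[F] _).comp ((LinearMap.inl F (K × K) F).comp (LinearMap.inl F K K))
  have hi : ∀ x, i x = e.symm ((x, 0), 0) := fun _ => rfl
  refine ⟨K, inferInstance, inferInstance, z, ((a ^ 2 : Kˣ) : K), i, hz, ?_, ?_, ?_, fun j hj => ?_, fun j hj => ?_⟩
  · rw [orderOf_units, orderOf_pow_of_dvd (by norm_num) (by rw [ha]; exact Dvd.intro _ rfl), ha]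
    exact Nat.mul_div_cancel_left _ (by norm_num)
  · intro x y hxy
    rw [hi, hi] at hxy
    exact congrArg (fun v : (K × K) × F => v.1.1) (e.symm.injective hxy)
  · intro x
    apply e.injective
    have h1 := hze 1 (i x)
    rw [pow_one, mul_one, hi, LinearEquiv.apply_symm_apply, hSj] at h1
    rw [hi, h1, hi, LinearEquiv.apply_symm_apply]
    simp
  · exact pow_eq_one_of_gen (hze j) ((hS1 j).2 hj)
  · refine fixn_of_gen' (hze j) fun v hv => ?_
    rw [hSj] at hv
    have h1 : a ^ (2 * j) ≠ 1 := fun h => hj ((hdiv j).1 h)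
    have h3 : ((a ^ (2 * j) : Kˣ) : K) ≠ 1 := fun h => h1 (Units.ext h)
    have h4 : (((a ^ (2 * j))⁻¹ : Kˣ) : K) ≠ 1 := fun h => h1 (inv_eq_one.1 (Units.ext h))
    refine Prod.ext ?_ ?_
    · have h5 := congrArg Prod.fst hv
      change ((a ^ (2 * j) : Kˣ) : K) * v.1 = v.1 at h5
      by_contra h6
      exact h3 (mul_right_cancel₀ h6 (by rw [h5, one_mul]))
    · have h5 := congrArg Prod.snd hv
      change (((a ^ (2 * j))⁻¹ : Kˣ) : K) * v.2 = v.2 at h5
      by_contra h6
      exact h4 (mul_right_cancel₀ h6 (by rw [h5, one_mul]))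

/-- **the torus of order `(q^m + 1)/2`** -/
theorem exists_minus (h2 : (2 : F) ≠ 0) {m : ℕ} (hm : 3 ≤ m) {N : ℕ} (hN : 2 * N ∣ Nat.card F ^ m + 1) :
    ∃ (K : Type) (_ : Field K) (_ : Algebra F K) (z : Omega F ⇑(quadOdd m F)) (b : K) (i : K →ₗ[F] (Ix m → F)),
      orderOf (QuotientGroup.mk z : POmega F ⇑(quadOdd m F)) = N ∧ orderOf b = N ∧ Function.Injective i ∧
      (∀ x, ac z *ᵥ i x = i (b * x)) ∧ ∀ j, N ∣ j → z ^ j = 1 := by
  obtain ⟨p, _⟩ := CharP.exists F
  have : Fact p.Prime := ⟨CharP.char_is_prime F p⟩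
  have : NeZero (2 * m) := ⟨by omega⟩
  let K := FiniteField.Extension F p (2 * m)
  have hKc : Nat.card K = Nat.card F ^ (2 * m) := FiniteField.natCard_extension F p (2 * m)
  have hKf : finrank F K = 2 * m := FiniteField.finrank_extension F p (2 * m)
  have hq1 : 1 < Nat.card F ^ m := Nat.one_lt_pow (by omega) Finite.one_lt_card
  have hN0 : 0 < N := by
    rcases Nat.eq_zero_or_pos N with rfl | h
    · rw [mul_zero, zero_dvd_iff] at hN
      omega
    · exact h
  have hfac : Nat.card F ^ (2 * m) - 1 = (Nat.card F ^ m + 1) * (Nat.card F ^ m - 1) := by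
    rw [mul_comm 2 m, pow_mul, ← Nat.sq_sub_sq, one_pow]
  obtain ⟨g, hg⟩ := IsCyclic.exists_ofOrder_eq_natCard (α := Kˣ)
  rw [Nat.card_units, hKc, hfac] at hg
  obtain ⟨M', hM'⟩ := id hN
  have hM'0 : M' * (Nat.card F ^ m - 1) ≠ 0 := by
    refine mul_ne_zero ?_ (by omega)
    rintro rfl
    omega
  let a : Kˣ := g ^ (M' * (Nat.card F ^ m - 1))
  have ha : orderOf a = 2 * N := by
    change orderOf (g ^ (M' * (Nat.card F ^ m - 1))) = 2 * N
    have h1 : orderOf g = 2 * N * (M' * (Nat.card F ^ m - 1)) := by rw [hg, hM', mul_assoc]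
    rw [orderOf_pow_of_dvd hM'0 (by rw [h1]; exact Dvd.intro_left _ rfl), h1]
    exact Nat.mul_div_cancel _ (by omega)
  have hdiv : ∀ j, a ^ (2 * j) = 1 ↔ N ∣ j := by
    intro j
    rw [← orderOf_dvd_iff_pow_eq_one, ha]
    exact Nat.mul_dvd_mul_iff_left (by norm_num)
  have hnorm : a ^ (Nat.card F ^ m + 1) = 1 := by
    rw [← orderOf_dvd_iff_pow_eq_one, ha]
    exact hN
  have hK2 : (2 : K) ≠ 0 := by
    intro h
    apply h2
    apply (algebraMap F K).injective
    rw [map_zero, map_ofNat]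
    exact h
  let τ : K ≃ₐ[F] K := (FiniteField.frobeniusAlgEquivOfAlgebraic F K) ^ m
  have hτ : ∀ x, τ x = x ^ (Nat.card F ^ m) := by
    intro x
    change ((FiniteField.frobeniusAlgEquivOfAlgebraic F K) ^ m) x = _
    rw [AlgEquiv.coe_pow, FiniteField.coe_frobeniusAlgEquivOfAlgebraic_iterate, Nat.card_eq_fintype_card]
  have hττ : ∀ x, τ (τ x) = x := by
    intro x
    let _ := Fintype.ofFinite K
    rw [hτ, hτ, ← pow_mul, ← pow_add, ← two_mul, ← hKc, Nat.card_eq_fintype_card]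
    exact FiniteField.pow_card x
  have hTr : ∀ x, Algebra.trace F K (τ x) = Algebra.trace F K x := fun x => Algebra.trace_eq_of_algEquiv τ x
  let Q₁ : QuadraticForm F K := (Algebra.trace F K).compQuadraticMap
    (QuadraticMap.linMulLin (LinearMap.id : K →ₗ[F] K) (τ : K →ₗ[F] K))
  have hQ₁' : ∀ v, Q₁ v = Algebra.trace F K (v * τ v) := fun v => rfl
  have hnd : Nondeg Q₁ := by
    refine nondeg_trace (F := F) (K := K) (fun x y => 2 * (x * τ y)) (fun x y => ?_) fun x hx => ?_
    · rw [polar, hQ₁', hQ₁', hQ₁', ← map_sub, ← map_sub]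
      have h3 : Algebra.trace F K (y * τ x) = Algebra.trace F K (x * τ y) := by
        rw [← hTr, map_mul, hττ]
        exact congrArg _ (mul_comm _ _)
      have h4 : (x + y) * τ (x + y) - x * τ x - y * τ y = x * τ y + y * τ x := by
        rw [map_add]
        ring
      rw [h4, map_add, h3, ← map_add]
      exact congrArg _ (two_mul (x * τ y)).symm
    · refine ⟨fun c => τ (c / (2 * x)), fun c => ?_⟩
      change 2 * (x * τ (τ (c / (2 * x)))) = c
      rw [hττ, ← mul_assoc]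
      exact mul_div_cancel₀ c (mul_ne_zero hK2 hx)
  let S : Module.End F K := LinearMap.mulLeft F (a : K)
  have hSj : ∀ (j : ℕ) (v : K), (S ^ j) v = ((a ^ j : Kˣ) : K) * v := by
    intro j
    induction j with
    | zero => intro v; simp
    | succ k ih =>
      intro v
      rw [pow_succ, Module.End.mul_apply, ih]
      change ((a ^ k : Kˣ) : K) * ((a : K) * v) = _
      rw [pow_succ, Units.val_mul, mul_assoc]
  have hSQ : ∀ v, Q₁ (S v) = Q₁ v := by
    intro v
    have h := hSj 1 v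
    rw [pow_one] at h
    rw [h, hQ₁', hQ₁', pow_one]
    congr 1
    have h1 : (a : K) * τ (a : K) = 1 := by
      rw [hτ, ← pow_succ', ← Units.val_pow_eq_pow_val, hnorm, Units.val_one]
    rw [map_mul]
    linear_combination v * τ v * h1
  have hS1 : ∀ j, S ^ (2 * j) = 1 ↔ N ∣ j := by
    intro j
    rw [← hdiv]
    constructor
    · intro h
      have h1 := hSj (2 * j) 1
      rw [h, mul_one] at h1
      exact Units.ext h1.symm
    · intro h
      refine LinearMap.ext fun v => ?_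
      rw [hSj, h]
      simp
  obtain ⟨z, e, hz, hze⟩ := exists_gen h2 hm hnd hKf S hSQ hS1
  let i : K →ₗ[F] (Ix m → F) := (e.symm : _ →ₗ[F] _).comp (LinearMap.inl F K F)
  have hi : ∀ x, i x = e.symm (x, 0) := fun _ => rfl
  refine ⟨K, inferInstance, inferInstance, z, ((a ^ 2 : Kˣ) : K), i, hz, ?_, ?_, ?_, fun j hj => ?_⟩
  · rw [orderOf_units, orderOf_pow_of_dvd (by norm_num) (by rw [ha]; exact Dvd.intro _ rfl), ha]
    exact Nat.mul_div_cancel_left _ (by norm_num)
  · intro x y hxy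
    rw [hi, hi] at hxy
    exact congrArg Prod.fst (e.symm.injective hxy)
  · intro x
    apply e.injective
    have h1 := hze 1 (i x)
    rw [pow_one, mul_one, hi, LinearEquiv.apply_symm_apply, hSj] at h1
    rw [hi, h1, hi, LinearEquiv.apply_symm_apply]
  · exact pow_eq_one_of_gen (hze j) ((hS1 j).2 hj)

end tor

end Cfsg.Agent.H833.RS
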