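import Cfsg.Agent.H884.ElFin

/-!
# Commuting isometries in a seven-dimensional orthogonal space over the field with three elements (helper833)
-/

set_option autoImplicit false
set_option linter.unusedSectionVars false

namespace Cfsg.Agent.H833.RS.O73

open Module QuadraticMap Cfsg Cfsg.Geo Cfsg.Agent.LieClassical.OrthCore Cfsg.Agent.H955 Cfsg.Agent.H954.TSing
open Cfsg.Agent.H884.El
open Cfsg.Agent.H951 (fx cm Inv)

universe u v

variable {F : Type u} [Field F] [Fintype F] {V : Type v} [AddCommGroup V] [Module F V] [FiniteDimensional F V]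
  {Q : QuadraticForm F V} {y u : Module.End F V} {W : Submodule F V} {r e : ℕ}

theorem exists_fixed (h3 : (3 : F) = 0) (hu : ∀ v, u (u (u v)) = v) (hW : Inv u W) (h0 : W ≠ ⊥) :
    ∃ w ∈ W, w ≠ 0 ∧ u w = w := by
  obtain ⟨v, hv, hv0⟩ := (Submodule.ne_bot_iff W).1 h0
  by_cases h1 : u v = v
  · exact ⟨v, hv, hv0, h1⟩
  have hv1 : u v - v ∈ W := W.sub_mem (hW v hv) hv
  by_cases h2 : u (u v - v) = u v - v
  · exact ⟨_, hv1, sub_ne_zero.2 h1, h2⟩
  refine ⟨u (u v - v) - (u v - v), W.sub_mem (hW _ hv1) hv1, sub_ne_zero.2 h2, ?_⟩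
  have h4 : ∀ z : V, (3 : F) • z = 0 := fun z => by rw [h3, zero_smul]
  have h5 := h4 (u (u v))
  have h6 := h4 (u v)
  rw [← sub_eq_zero]
  simp only [map_sub, hu]
  have h7 : v - u (u v) - (u (u v) - u v) - (u (u v) - u v - (u v - v)) =
      (3 : F) • u v - (3 : F) • u (u v) := by
    module
  rw [h7, h5, h6, sub_zero]

theorem inv_cm_of_comm (hc : ∀ v, u (y v) = y (u v)) : Inv u (cm y) := by
  intro w hw
  obtain ⟨z, rfl⟩ := H951.mem_cm.1 hw
  exact H951.mem_cm.2 ⟨u z, by rw [← hc, ← map_sub]⟩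

theorem inv_fx_of_comm (hc : ∀ v, u (y v) = y (u v)) : Inv y (fx u) := by
  intro w hw
  rw [H951.mem_fx] at hw ⊢
  rw [hc, hw]

theorem cm_le_fx (h3 : (3 : F) = 0) (hu : ∀ v, u (u (u v)) = v) (h : Iso Q y r) (hy1 : y ≠ 1)
    (hr : PP (Nat.card F) e r) (hcm : finrank F (cm y) = e) (hc : ∀ v, u (y v) = y (u v)) : cm y ≤ fx u := by
  rcases h.le_or hr hcm (inv_fx_of_comm hc) with h1 | h1
  · exfalso
    obtain ⟨w, hw, hw0, hw1⟩ := exists_fixed h3 hu (inv_cm_of_comm hc) (cm_ne_bot hy1)
    have h2 : w ∈ fx y ⊓ cm y := ⟨h1 (H951.mem_fx.2 hw1), hw⟩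
    rw [(H951.isCompl_fx_cm h.ne0 h.pow).inf_eq_bot] at h2
    exact hw0 ((Submodule.mem_bot F).1 h2)
  · exact h1

theorem line_le_fx (h3 : (3 : F) = 0) (hu : ∀ v, u (u (u v)) = v) (hW : Inv u W) (hd : finrank F W = 1) :
    W ≤ fx u := by
  have h0 : W ≠ ⊥ := by
    rintro rfl
    rw [finrank_bot] at hd
    exact absurd hd (by norm_num)
  obtain ⟨w, hw, hw0, hw1⟩ := exists_fixed h3 hu hW h0
  have h1 : Submodule.span F {w} = W := by
    refine Submodule.eq_of_le_of_finrank_eq ((Submodule.span_singleton_le_iff_mem _ _).2 hw) ?_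
    rw [hd, finrank_span_singleton hw0]
  rw [← h1, Submodule.span_singleton_le_iff_mem]
  exact H951.mem_fx.2 hw1

/-- a nondegenerate plane has no isometry of order three -/
theorem plane_le_fx (h3 : (3 : F) = 0) (hu : ∀ v, u (u (u v)) = v) (hQ : ∀ v, Q (u v) = Q v) (hW : Inv u W)
    (hd : finrank F W = 2) (hn : Nondeg (res Q W)) : W ≤ fx u := by
  have h2 : (2 : F) ≠ 0 := by
    intro h
    have : (1 : F) = 0 := by linear_combination h3 - h
    exact one_ne_zero this
  have h0 : W ≠ ⊥ := by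
    rintro rfl
    rw [finrank_bot] at hd
    exact absurd hd (by norm_num)
  have hpol : ∀ a b, polar Q (u a) (u b) = polar Q a b := fun a b => polar_isom hQ a b
  obtain ⟨w, hw, hw0, hw1⟩ := exists_fixed h3 hu hW h0
  intro v hv
  rw [H951.mem_fx]
  by_contra hne
  set d := u v - v with hdd
  have hd0 : d ≠ 0 := sub_ne_zero.2 hne
  have hdW : d ∈ W := W.sub_mem (hW v hv) hv
  have huv : u v = v + d := by rw [hdd]; abel
  have hwd : polar Q w d = 0 := by
    have h4 := hpol w v
    rw [hw1, huv, polar_add_right] at h4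
    linear_combination h4
  have hvd : Q d + polar Q v d = 0 := by
    have h4 := hQ v
    rw [huv, QuadraticMap.map_add (⇑Q)] at h4
    linear_combination h4
  have hww : polar Q w w = 2 * Q w := by
    rw [polar, ← two_smul F w, QuadraticMap.map_smul, smul_eq_mul]
    ring
  have hdd' : polar Q d d = 2 * Q d := by
    rw [polar, ← two_smul F d, QuadraticMap.map_smul, smul_eq_mul]
    ring
  -- a spanning pair
  have hspan : ∀ a b : V, a ∈ W → b ∈ W → LinearIndependent F ![a, b] → ∀ z ∈ W, ∃ s t : F, s • a + t • b = z := by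
    intro a b ha hb hli z hz
    have h5 : Submodule.span F {a, b} = W := by
      refine Submodule.eq_of_le_of_finrank_eq (Submodule.span_le.2 ?_) ?_
      · rintro c hc
        rcases hc with rfl | hc
        · exact ha
        · rw [Set.mem_singleton_iff.1 hc]; exact hb
      · have h6 := finrank_span_eq_card hli
        rw [Matrix.range_cons, Matrix.range_cons, Matrix.range_empty, Set.union_empty, Fintype.card_fin] at h6
        rw [hd]
        exact h6
    rw [← h5] at hz
    exact Submodule.mem_span_pair.1 hz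
  have hnd := (nondeg_res_iff (Q := Q) (W := W)).1 hn
  by_cases hli : LinearIndependent F ![w, d]
  · -- `w` is nonsingular
    have hQw : Q w ≠ 0 := by
      intro h5
      apply hw0
      refine hnd w hw fun z hz => ?_
      obtain ⟨s, t, rfl⟩ := hspan w d hw hdW hli z hz
      rw [polar_add_right, polar_smul_right, polar_smul_right, hwd, hww, h5]
      simp
    -- `u d = d + e d`
    obtain ⟨s, t, hst⟩ := hspan w d hw hdW hli (u d - d) (W.sub_mem (hW d hdW) hdW)
    have h6 : polar Q w (u d - d) = 0 := by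
      rw [polar_sub_right]
      nth_rw 1 [← hw1]
      rw [hpol, sub_self]
    rw [← hst, polar_add_right, polar_smul_right, polar_smul_right, hwd, hww, smul_zero, add_zero, smul_eq_mul] at h6
    have hs : s = 0 := by
      rcases mul_eq_zero.1 h6 with h7 | h7
      · exact h7
      · exact absurd ((mul_eq_zero.1 h7).resolve_left h2) hQw
    rw [hs, zero_smul, zero_add] at hst
    have hud : u d = (1 + t) • d := by rw [add_smul, one_smul, hst]; abel
    have h7 : (1 + t) ^ 3 = 1 := by
      have h8 := hu d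
      rw [hud, map_smul, hud, map_smul, map_smul, hud, smul_smul, smul_smul] at h8
      have h9 : ((1 + t) * (1 + t) * (1 + t) - 1) • d = 0 := by rw [sub_smul, h8, one_smul, sub_self]
      have h10 := (smul_eq_zero.1 h9).resolve_right hd0
      linear_combination h10
    have ht : t = 0 := by
      have h8 : t ^ 3 = 0 := by linear_combination h7 - (t ^ 2 + t) * h3
      exact pow_eq_zero_iff (by norm_num) |>.1 h8
    rw [ht, add_zero, one_smul] at hud
    -- `u = 1` on `W`
    obtain ⟨s', t', h8⟩ := hspan w d hw hdW hli v hv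
    apply hne
    rw [← h8, map_add, map_smul, map_smul, hw1, hud]
  · -- `d` is a multiple of `w`
    rw [LinearIndependent.pair_iff' hw0] at hli
    push Not at hli
    obtain ⟨c, hc⟩ := hli
    have hc0 : c ≠ 0 := by
      rintro rfl
      rw [zero_smul] at hc
      exact hd0 hc.symm
    have hQw : Q w = 0 := by
      rw [← hc, polar_smul_right, hww, smul_eq_mul] at hwd
      have h5 := (mul_eq_zero.1 hwd).resolve_left hc0
      exact (mul_eq_zero.1 h5).resolve_left h2
    have hQd : Q d = 0 := by rw [← hc, QuadraticMap.map_smul, hQw, smul_zero]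
    rw [hQd, zero_add, ← hc, polar_smul_right, smul_eq_mul] at hvd
    have hvw : polar Q v w = 0 := (mul_eq_zero.1 hvd).resolve_left hc0
    by_cases hli2 : LinearIndependent F ![w, v]
    · apply hw0
      refine hnd w hw fun z hz => ?_
      obtain ⟨s, t, rfl⟩ := hspan w v hw hv hli2 z hz
      rw [polar_add_right, polar_smul_right, polar_smul_right, hww, hQw, polar_comm (⇑Q) w v, hvw]
      simp
    · rw [LinearIndependent.pair_iff' hw0] at hli2
      push Not at hli2
      obtain ⟨c', hc'⟩ := hli2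
      apply hne
      rw [← hc', map_smul, hw1]

theorem eq_one_of_le {X Y : Submodule F V} (hX : X ≤ fx u) (hY : Y ≤ fx u) (h : X ⊔ Y = ⊤) : u = 1 := by
  have h1 : fx u = ⊤ := top_le_iff.1 (h ▸ sup_le hX hY)
  refine LinearMap.ext fun v => ?_
  have h2 : v ∈ fx u := by rw [h1]; trivial
  exact H951.mem_fx.1 h2

/-- no elements of order 21 -/
theorem no21 (h3 : (3 : F) = 0) (hu : ∀ v, u (u (u v)) = v) (h : Iso Q y 7) (hQ : Nondeg Q) (hy1 : y ≠ 1)
    (hr : PP (Nat.card F) 6 7) (hV : finrank F V = 7) (hc : ∀ v, u (y v) = y (u v)) : u = 1 := by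
  obtain ⟨hcm, -⟩ := h.even_case hQ hy1 hr ⟨3, rfl⟩ (by omega)
  have h1 := cm_le_fx h3 hu h hy1 hr hcm hc
  have h2 := h.finrank_add
  refine eq_one_of_le (line_le_fx h3 hu (W := fx y) (inv_fx_of_comm fun v => (hc v).symm) (by omega)) h1
    (H951.isCompl_fx_cm h.ne0 h.pow).sup_eq_top

/-- no elements of order 35 -/
theorem no35 (h : Iso Q y 7) (h5 : Iso Q u 5) (hQ : Nondeg Q) (hy1 : y ≠ 1) (hu1 : u ≠ 1)
    (hr : PP (Nat.card F) 6 7) (hr5 : PP (Nat.card F) 4 5) (hV : finrank F V = 7) (hc : ∀ v, u (y v) = y (u v)) :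
    False := by
  obtain ⟨hcm, -⟩ := h.even_case hQ hy1 hr ⟨3, rfl⟩ (by omega)
  obtain ⟨hcm5, -⟩ := h5.even_case hQ hu1 hr5 ⟨2, rfl⟩ (by omega)
  have h2 := h.finrank_add
  rcases h.le_or hr hcm (inv_cm_of_comm (u := y) (y := u) fun v => (hc v).symm) with h1 | h1
  · have := Submodule.finrank_mono h1
    omega
  · have := Submodule.finrank_mono h1
    omega

/-- no elements of order 15 in the stabilizer of a nonsingular point -/
theorem no15 (h3 : (3 : F) = 0) (hu : ∀ v, u (u (u v)) = v) (huQ : ∀ v, Q (u v) = Q v) (h : Iso Q y 5)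
    (hQ : Nondeg Q) (hy1 : y ≠ 1) (hr : PP (Nat.card F) 4 5) (hV : finrank F V = 7)
    (hc : ∀ v, u (y v) = y (u v)) (hWd : finrank F W = 6) (hWn : Nondeg (res Q W)) (hWy : Inv y W)
    (hWu : Inv u W) : u = 1 := by
  obtain ⟨hcm, -⟩ := h.even_case hQ hy1 hr ⟨2, rfl⟩ (by omega)
  have h1 := cm_le_fx h3 hu h hy1 hr hcm hc
  have h2 := h.finrank_add
  have hcW : cm y ≤ W := by
    rcases h.le_or hr hcm hWy with h4 | h4
    · have := Submodule.finrank_mono h4
      omega
    · exact h4
  -- the complement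
  have hperp : Inv u (perp Q W) := by
    intro v hv w hw
    -- `w = u w'`
    have h4 : u (u (u w)) = w := hu w
    have h5 := hv (u (u w)) (hWu _ (hWu _ hw))
    have h6 := polar_isom (x := u) huQ (u (u w)) v
    rw [h4] at h6
    rw [h6]
    exact h5
  have hpd := finrank_add_perp hQ W
  have h4 := line_le_fx h3 hu hperp (by omega)
  -- the plane
  have hP1 : finrank F ↥(W ⊓ fx y) = 2 := by
    have h5 := H951.finrank_inf_add h.ne0 h.pow hWy
    rw [inf_eq_right.2 hcW] at h5
    omega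
  have hfn := nondeg_fx hQ h.iso h.ne0 h.pow
  have hP2 : Nondeg (res Q (W ⊓ fx y)) := by
    rw [nondeg_res_iff]
    rintro x ⟨hxW, hxf⟩ hxy
    refine (nondeg_res_iff (Q := Q) (W := W)).1 hWn x hxW fun z hz => ?_
    have h5 := H951.inf_fx_sup_inf_cm h.ne0 h.pow hWy
    rw [← h5] at hz
    obtain ⟨a, ha, b, hb, rfl⟩ := Submodule.mem_sup.1 hz
    have h6 : x ∈ perp Q (cm y) := by rw [perp_cm hQ h.iso h.ne0 h.pow]; exact hxf
    rw [polar_add_right, hxy a ha, polar_comm, h6 b hb.2, add_zero]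
  have hP3 : Inv u (W ⊓ fx y) := hWu.inf (inv_fx_of_comm fun v => (hc v).symm)
  have h5 := plane_le_fx h3 hu huQ hP3 hP1 hP2
  have h6 := H951.inf_fx_sup_inf_cm h.ne0 h.pow hWy
  have h7 : W ≤ fx u := by
    rw [← h6]
    exact sup_le h5 (inf_le_right.trans h1)
  exact eq_one_of_le h7 h4 (isCompl_perp hWn).sup_eq_top

end Cfsg.Agent.H833.RS.O73
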